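import Cfsg.Agent.Lib.Fus.Fi22Out.ClassData
import Cfsg.Agent.Lib.Spor.Cos.Fi22.ActBData

/-! Checks of possible images. -/

set_option autoImplicit false
set_option maxRecDepth 100000
set_option maxHeartbeats 4000000

open Cfsg.Agent.Spor.Cos Cfsg.Agent.Spor.Cos.Triple Cfsg.Agent.Fus.Transp

namespace Cfsg.Agent.Fus.Fi22Out

open Cfsg.Agent.Spor.Cos.Fi22 (actB)

theorem cand3_ok_b0 : allBlock (chkCand actB rt3) 3510 1024 0 = true := by decide +kernel

theorem cand3_ok_b1 : allBlock (chkCand actB rt3) 3510 1024 1 = true := by decide +kernel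

theorem cand3_ok_b2 : allBlock (chkCand actB rt3) 3510 1024 2 = true := by decide +kernel

theorem cand3_ok_b3 : allBlock (chkCand actB rt3) 3510 1024 3 = true := by decide +kernel

theorem cand3_ok : ∀ i < 3510, (chkCand actB rt3) i = true :=
  of_blocks (size := 1024) (b := 4) (by decide) (by decide) fun j hj => by
    interval_cases j
    · exact cand3_ok_b0
    · exact cand3_ok_b1
    · exact cand3_ok_b2
    · exact cand3_ok_b3

theorem cand4_ok_b0 : allBlock (chkCand actB rt4) 3510 1024 0 = true := by decide +kernel

theorem cand4_ok_b1 : allBlock (chkCand actB rt4) 3510 1024 1 = true := by decide +kernel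

theorem cand4_ok_b2 : allBlock (chkCand actB rt4) 3510 1024 2 = true := by decide +kernel

theorem cand4_ok_b3 : allBlock (chkCand actB rt4) 3510 1024 3 = true := by decide +kernel

theorem cand4_ok : ∀ i < 3510, (chkCand actB rt4) i = true :=
  of_blocks (size := 1024) (b := 4) (by decide) (by decide) fun j hj => by
    interval_cases j
    · exact cand4_ok_b0
    · exact cand4_ok_b1
    · exact cand4_ok_b2
    · exact cand4_ok_b3

theorem cand5_ok_b0 : allBlock (chkCand actB rt5) 3510 1024 0 = true := by decide +kernel

theorem cand5_ok_b1 : allBlock (chkCand actB rt5) 3510 1024 1 = true := by decide +kernel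

theorem cand5_ok_b2 : allBlock (chkCand actB rt5) 3510 1024 2 = true := by decide +kernel

theorem cand5_ok_b3 : allBlock (chkCand actB rt5) 3510 1024 3 = true := by decide +kernel

theorem cand5_ok : ∀ i < 3510, (chkCand actB rt5) i = true :=
  of_blocks (size := 1024) (b := 4) (by decide) (by decide) fun j hj => by
    interval_cases j
    · exact cand5_ok_b0
    · exact cand5_ok_b1
    · exact cand5_ok_b2
    · exact cand5_ok_b3


end Cfsg.Agent.Fus.Fi22Out
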