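import Cfsg.Agent.Lib.Fus.Fi22Out.ClassData
import Cfsg.Agent.Lib.Spor.Cos.Fi22.ActBData

/-! The search through possible images. -/

set_option autoImplicit false
set_option maxRecDepth 100000
set_option maxHeartbeats 4000000

open Cfsg.Agent.Spor.Cos Cfsg.Agent.Spor.Cos.Triple Cfsg.Agent.Fus.Transp

namespace Cfsg.Agent.Fus.Fi22Out

open Cfsg.Agent.Spor.Cos.Fi22 (actB)

theorem dfs_ok : dfs (okSel actB qs dvs) (finSel actB qs dvs (zs.map Prod.fst))
    (rts.map fun R => R.cands.length) [] = true := by decide +kernel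

end Cfsg.Agent.Fus.Fi22Out
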