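import Cfsg.Agent.Lib.Fus.Fi22Out.ClassData
import Cfsg.Agent.Lib.Spor.Cos.Fi22.ActBData

/-! Checks of the centraliser of the squares. -/

set_option autoImplicit false
set_option maxRecDepth 100000
set_option maxHeartbeats 4000000

open Cfsg.Agent.Spor.Cos Cfsg.Agent.Spor.Cos.Triple Cfsg.Agent.Fus.Transp

namespace Cfsg.Agent.Fus.Fi22Out

open Cfsg.Agent.Spor.Cos.Fi22 (actB)

theorem rts_ok : (rts.all fun R => chkRt actB qs sW R) = true := by decide +kernel

theorem dvs_ok : ((List.range 9).all fun s => chkDv actB qs tw 0 sW rts dvs s) = true := by decide +kernel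

theorem sq_ok : ((List.range sW.length).all fun i => (fun X : List ℕ => sameW actB qs (X ++ X) (sW.getD i []))
    (maskW chainH chainH.length (sqM.getD i 0))) = true := by decide +kernel

theorem zs_ok : (zs.all fun e => chkZ actB qs tw e) = true := by decide +kernel

end Cfsg.Agent.Fus.Fi22Out
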