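import Cfsg.Agent.Lib.Fus.Fi22Out.TreeData

/-! Checks of orbits. -/

set_option autoImplicit false
set_option maxRecDepth 100000
set_option maxHeartbeats 4000000

open Cfsg.Agent.Spor.Cos Cfsg.Agent.Spor.Cos.Triple Cfsg.Agent.Fus.Transp

namespace Cfsg.Agent.Fus.Fi22Out

open Cfsg.Agent.Spor.Cos.Fi22 (actB)

theorem o1_ents_b0 : allBlock (o1.chkEnt actB ws0 14) 2816 1024 0 = true := by decide +kernel

theorem o1_ents_b1 : allBlock (o1.chkEnt actB ws0 14) 2816 1024 1 = true := by decide +kernel

theorem o1_ents_b2 : allBlock (o1.chkEnt actB ws0 14) 2816 1024 2 = true := by decide +kernel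

theorem o1_ents : ∀ i < 2816, (o1.chkEnt actB ws0 14) i = true :=
  of_blocks (size := 1024) (b := 3) (by decide) (by decide) fun j hj => by
    interval_cases j
    · exact o1_ents_b0
    · exact o1_ents_b1
    · exact o1_ents_b2

theorem o1_ok : o1.Ok actB ws0 14 where
  letters := by decide +kernel
  pos := by decide +kernel
  ents := o1_ents

theorem o2_ents_b0 : allBlock (o2.chkEnt actB ws1 12) 567 1024 0 = true := by decide +kernel

theorem o2_ents : ∀ i < 567, (o2.chkEnt actB ws1 12) i = true :=
  of_blocks (size := 1024) (b := 1) (by decide) (by decide) fun j hj => by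
    interval_cases j
    · exact o2_ents_b0

theorem o2_ok : o2.Ok actB ws1 12 where
  letters := by decide +kernel
  pos := by decide +kernel
  ents := o2_ents

theorem o28_ents_b0 : allBlock (o28.chkEnt actB ws1 0) 1 1024 0 = true := by decide +kernel

theorem o28_ents : ∀ i < 1, (o28.chkEnt actB ws1 0) i = true :=
  of_blocks (size := 1024) (b := 1) (by decide) (by decide) fun j hj => by
    interval_cases j
    · exact o28_ents_b0

theorem o28_ok : o28.Ok actB ws1 0 where
  letters := by decide +kernel
  pos := by decide +kernel
  ents := o28_ents

theorem o3_ents_b0 : allBlock (o3.chkEnt actB ws2 10) 96 1024 0 = true := by decide +kernel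

theorem o3_ents : ∀ i < 96, (o3.chkEnt actB ws2 10) i = true :=
  of_blocks (size := 1024) (b := 1) (by decide) (by decide) fun j hj => by
    interval_cases j
    · exact o3_ents_b0

theorem o3_ok : o3.Ok actB ws2 10 where
  letters := by decide +kernel
  pos := by decide +kernel
  ents := o3_ents

theorem o4_ents_b0 : allBlock (o4.chkEnt actB ws3 154) 10 1024 0 = true := by decide +kernel

theorem o4_ents : ∀ i < 10, (o4.chkEnt actB ws3 154) i = true :=
  of_blocks (size := 1024) (b := 1) (by decide) (by decide) fun j hj => by
    interval_cases j
    · exact o4_ents_b0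

theorem o4_ok : o4.Ok actB ws3 154 where
  letters := by decide +kernel
  pos := by decide +kernel
  ents := o4_ents

theorem o16_ents_b0 : allBlock (o16.chkEnt actB ws3 190) 5 1024 0 = true := by decide +kernel

theorem o16_ents : ∀ i < 5, (o16.chkEnt actB ws3 190) i = true :=
  of_blocks (size := 1024) (b := 1) (by decide) (by decide) fun j hj => by
    interval_cases j
    · exact o16_ents_b0

theorem o16_ok : o16.Ok actB ws3 190 where
  letters := by decide +kernel
  pos := by decide +kernel
  ents := o16_ents

theorem o22_ents_b0 : allBlock (o22.chkEnt actB ws3 243) 5 1024 0 = true := by decide +kernel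

theorem o22_ents : ∀ i < 5, (o22.chkEnt actB ws3 243) i = true :=
  of_blocks (size := 1024) (b := 1) (by decide) (by decide) fun j hj => by
    interval_cases j
    · exact o22_ents_b0

theorem o22_ok : o22.Ok actB ws3 243 where
  letters := by decide +kernel
  pos := by decide +kernel
  ents := o22_ents

theorem o5_ents_b0 : allBlock (o5.chkEnt actB ws4 243) 3 1024 0 = true := by decide +kernel

theorem o5_ents : ∀ i < 3, (o5.chkEnt actB ws4 243) i = true :=
  of_blocks (size := 1024) (b := 1) (by decide) (by decide) fun j hj => by
    interval_cases j
    · exact o5_ents_b0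

theorem o5_ok : o5.Ok actB ws4 243 where
  letters := by decide +kernel
  pos := by decide +kernel
  ents := o5_ents

theorem o9_ents_b0 : allBlock (o9.chkEnt actB ws4 154) 1 1024 0 = true := by decide +kernel

theorem o9_ents : ∀ i < 1, (o9.chkEnt actB ws4 154) i = true :=
  of_blocks (size := 1024) (b := 1) (by decide) (by decide) fun j hj => by
    interval_cases j
    · exact o9_ents_b0

theorem o9_ok : o9.Ok actB ws4 154 where
  letters := by decide +kernel
  pos := by decide +kernel
  ents := o9_ents

theorem o10_ents_b0 : allBlock (o10.chkEnt actB ws4 160) 3 1024 0 = true := by decide +kernel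

theorem o10_ents : ∀ i < 3, (o10.chkEnt actB ws4 160) i = true :=
  of_blocks (size := 1024) (b := 1) (by decide) (by decide) fun j hj => by
    interval_cases j
    · exact o10_ents_b0

theorem o10_ok : o10.Ok actB ws4 160 where
  letters := by decide +kernel
  pos := by decide +kernel
  ents := o10_ents

theorem o12_ents_b0 : allBlock (o12.chkEnt actB ws4 525) 3 1024 0 = true := by decide +kernel

theorem o12_ents : ∀ i < 3, (o12.chkEnt actB ws4 525) i = true :=
  of_blocks (size := 1024) (b := 1) (by decide) (by decide) fun j hj => by
    interval_cases j
    · exact o12_ents_b0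

theorem o12_ok : o12.Ok actB ws4 525 where
  letters := by decide +kernel
  pos := by decide +kernel
  ents := o12_ents

theorem o6_ents_b0 : allBlock (o6.chkEnt actB ws5 215) 4 1024 0 = true := by decide +kernel

theorem o6_ents : ∀ i < 4, (o6.chkEnt actB ws5 215) i = true :=
  of_blocks (size := 1024) (b := 1) (by decide) (by decide) fun j hj => by
    interval_cases j
    · exact o6_ents_b0

theorem o6_ok : o6.Ok actB ws5 215 where
  letters := by decide +kernel
  pos := by decide +kernel
  ents := o6_ents

theorem o7_ents_b0 : allBlock (o7.chkEnt actB ws6 1965) 1 1024 0 = true := by decide +kernel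

theorem o7_ents : ∀ i < 1, (o7.chkEnt actB ws6 1965) i = true :=
  of_blocks (size := 1024) (b := 1) (by decide) (by decide) fun j hj => by
    interval_cases j
    · exact o7_ents_b0

theorem o7_ok : o7.Ok actB ws6 1965 where
  letters := by decide +kernel
  pos := by decide +kernel
  ents := o7_ents

theorem o8_ents_b0 : allBlock (o8.chkEnt actB ws7 256) 1 1024 0 = true := by decide +kernel

theorem o8_ents : ∀ i < 1, (o8.chkEnt actB ws7 256) i = true :=
  of_blocks (size := 1024) (b := 1) (by decide) (by decide) fun j hj => by
    interval_cases j
    · exact o8_ents_b0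

theorem o8_ok : o8.Ok actB ws7 256 where
  letters := by decide +kernel
  pos := by decide +kernel
  ents := o8_ents

theorem o11_ents_b0 : allBlock (o11.chkEnt actB ws10 314) 2 1024 0 = true := by decide +kernel

theorem o11_ents : ∀ i < 2, (o11.chkEnt actB ws10 314) i = true :=
  of_blocks (size := 1024) (b := 1) (by decide) (by decide) fun j hj => by
    interval_cases j
    · exact o11_ents_b0

theorem o11_ok : o11.Ok actB ws10 314 where
  letters := by decide +kernel
  pos := by decide +kernel
  ents := o11_ents

theorem o13_ents_b0 : allBlock (o13.chkEnt actB ws12 152) 4 1024 0 = true := by decide +kernel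

theorem o13_ents : ∀ i < 4, (o13.chkEnt actB ws12 152) i = true :=
  of_blocks (size := 1024) (b := 1) (by decide) (by decide) fun j hj => by
    interval_cases j
    · exact o13_ents_b0

theorem o13_ok : o13.Ok actB ws12 152 where
  letters := by decide +kernel
  pos := by decide +kernel
  ents := o13_ents

theorem o14_ents_b0 : allBlock (o14.chkEnt actB ws13 315) 1 1024 0 = true := by decide +kernel

theorem o14_ents : ∀ i < 1, (o14.chkEnt actB ws13 315) i = true :=
  of_blocks (size := 1024) (b := 1) (by decide) (by decide) fun j hj => by
    interval_cases j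
    · exact o14_ents_b0

theorem o14_ok : o14.Ok actB ws13 315 where
  letters := by decide +kernel
  pos := by decide +kernel
  ents := o14_ents

theorem o15_ents_b0 : allBlock (o15.chkEnt actB ws14 256) 1 1024 0 = true := by decide +kernel

theorem o15_ents : ∀ i < 1, (o15.chkEnt actB ws14 256) i = true :=
  of_blocks (size := 1024) (b := 1) (by decide) (by decide) fun j hj => by
    interval_cases j
    · exact o15_ents_b0

theorem o15_ok : o15.Ok actB ws14 256 where
  letters := by decide +kernel
  pos := by decide +kernel
  ents := o15_ents

theorem o17_ents_b0 : allBlock (o17.chkEnt actB ws16 160) 6 1024 0 = true := by decide +kernel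

theorem o17_ents : ∀ i < 6, (o17.chkEnt actB ws16 160) i = true :=
  of_blocks (size := 1024) (b := 1) (by decide) (by decide) fun j hj => by
    interval_cases j
    · exact o17_ents_b0

theorem o17_ok : o17.Ok actB ws16 160 where
  letters := by decide +kernel
  pos := by decide +kernel
  ents := o17_ents

theorem o20_ents_b0 : allBlock (o20.chkEnt actB ws16 190) 1 1024 0 = true := by decide +kernel

theorem o20_ents : ∀ i < 1, (o20.chkEnt actB ws16 190) i = true :=
  of_blocks (size := 1024) (b := 1) (by decide) (by decide) fun j hj => by
    interval_cases j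
    · exact o20_ents_b0

theorem o20_ok : o20.Ok actB ws16 190 where
  letters := by decide +kernel
  pos := by decide +kernel
  ents := o20_ents

theorem o21_ents_b0 : allBlock (o21.chkEnt actB ws16 523) 1 1024 0 = true := by decide +kernel

theorem o21_ents : ∀ i < 1, (o21.chkEnt actB ws16 523) i = true :=
  of_blocks (size := 1024) (b := 1) (by decide) (by decide) fun j hj => by
    interval_cases j
    · exact o21_ents_b0

theorem o21_ok : o21.Ok actB ws16 523 where
  letters := by decide +kernel
  pos := by decide +kernel
  ents := o21_ents

theorem o18_ents_b0 : allBlock (o18.chkEnt actB ws17 256) 2 1024 0 = true := by decide +kernel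

theorem o18_ents : ∀ i < 2, (o18.chkEnt actB ws17 256) i = true :=
  of_blocks (size := 1024) (b := 1) (by decide) (by decide) fun j hj => by
    interval_cases j
    · exact o18_ents_b0

theorem o18_ok : o18.Ok actB ws17 256 where
  letters := by decide +kernel
  pos := by decide +kernel
  ents := o18_ents

theorem o19_ents_b0 : allBlock (o19.chkEnt actB ws18 1965) 2 1024 0 = true := by decide +kernel

theorem o19_ents : ∀ i < 2, (o19.chkEnt actB ws18 1965) i = true :=
  of_blocks (size := 1024) (b := 1) (by decide) (by decide) fun j hj => by
    interval_cases j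
    · exact o19_ents_b0

theorem o19_ok : o19.Ok actB ws18 1965 where
  letters := by decide +kernel
  pos := by decide +kernel
  ents := o19_ents

theorem o23_ents_b0 : allBlock (o23.chkEnt actB ws22 243) 1 1024 0 = true := by decide +kernel

theorem o23_ents : ∀ i < 1, (o23.chkEnt actB ws22 243) i = true :=
  of_blocks (size := 1024) (b := 1) (by decide) (by decide) fun j hj => by
    interval_cases j
    · exact o23_ents_b0

theorem o23_ok : o23.Ok actB ws22 243 where
  letters := by decide +kernel
  pos := by decide +kernel
  ents := o23_ents

theorem o24_ents_b0 : allBlock (o24.chkEnt actB ws22 151) 6 1024 0 = true := by decide +kernel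

theorem o24_ents : ∀ i < 6, (o24.chkEnt actB ws22 151) i = true :=
  of_blocks (size := 1024) (b := 1) (by decide) (by decide) fun j hj => by
    interval_cases j
    · exact o24_ents_b0

theorem o24_ok : o24.Ok actB ws22 151 where
  letters := by decide +kernel
  pos := by decide +kernel
  ents := o24_ents

theorem o27_ents_b0 : allBlock (o27.chkEnt actB ws22 1766) 1 1024 0 = true := by decide +kernel

theorem o27_ents : ∀ i < 1, (o27.chkEnt actB ws22 1766) i = true :=
  of_blocks (size := 1024) (b := 1) (by decide) (by decide) fun j hj => by
    interval_cases j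
    · exact o27_ents_b0

theorem o27_ok : o27.Ok actB ws22 1766 where
  letters := by decide +kernel
  pos := by decide +kernel
  ents := o27_ents

theorem o25_ents_b0 : allBlock (o25.chkEnt actB ws24 314) 2 1024 0 = true := by decide +kernel

theorem o25_ents : ∀ i < 2, (o25.chkEnt actB ws24 314) i = true :=
  of_blocks (size := 1024) (b := 1) (by decide) (by decide) fun j hj => by
    interval_cases j
    · exact o25_ents_b0

theorem o25_ok : o25.Ok actB ws24 314 where
  letters := by decide +kernel
  pos := by decide +kernel
  ents := o25_ents

theorem o26_ents_b0 : allBlock (o26.chkEnt actB ws25 153) 2 1024 0 = true := by decide +kernel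

theorem o26_ents : ∀ i < 2, (o26.chkEnt actB ws25 153) i = true :=
  of_blocks (size := 1024) (b := 1) (by decide) (by decide) fun j hj => by
    interval_cases j
    · exact o26_ents_b0

theorem o26_ok : o26.Ok actB ws25 153 where
  letters := by decide +kernel
  pos := by decide +kernel
  ents := o26_ents


end Cfsg.Agent.Fus.Fi22Out
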