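import Cfsg.Agent.Lib.Spor.Cos.Fi22.ActAData

/-! The graph automorphism is outer. -/

set_option autoImplicit false
set_option maxRecDepth 100000

open Cfsg.Agent.Spor.Cos

namespace Cfsg.Agent.Fus.Fi22Out

open Cfsg.Agent.Spor.Cos.Fi22 (actA)

theorem outer_b0 : allBlock (fun p => !(actA.chkFix [[5], [4], [3], [2], [1], [0], [7], [8]] p)) 14080 2048 0 = true := by decide +kernel

theorem outer_b1 : allBlock (fun p => !(actA.chkFix [[5], [4], [3], [2], [1], [0], [7], [8]] p)) 14080 2048 1 = true := by decide +kernel

theorem outer_b2 : allBlock (fun p => !(actA.chkFix [[5], [4], [3], [2], [1], [0], [7], [8]] p)) 14080 2048 2 = true := by decide +kernel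

theorem outer_b3 : allBlock (fun p => !(actA.chkFix [[5], [4], [3], [2], [1], [0], [7], [8]] p)) 14080 2048 3 = true := by decide +kernel

theorem outer_b4 : allBlock (fun p => !(actA.chkFix [[5], [4], [3], [2], [1], [0], [7], [8]] p)) 14080 2048 4 = true := by decide +kernel

theorem outer_b5 : allBlock (fun p => !(actA.chkFix [[5], [4], [3], [2], [1], [0], [7], [8]] p)) 14080 2048 5 = true := by decide +kernel

theorem outer_b6 : allBlock (fun p => !(actA.chkFix [[5], [4], [3], [2], [1], [0], [7], [8]] p)) 14080 2048 6 = true := by decide +kernel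

theorem outer_scan : ∀ p < 14080, actA.chkFix [[5], [4], [3], [2], [1], [0], [7], [8]] p = false := by
  intro p hp
  have h := of_blocks (p := (fun p => !(actA.chkFix [[5], [4], [3], [2], [1], [0], [7], [8]] p))) (size := 2048) (b := 7) (n := 14080) (by decide) (by decide) (fun j hj => by
    interval_cases j
    · exact outer_b0
    · exact outer_b1
    · exact outer_b2
    · exact outer_b3
    · exact outer_b4
    · exact outer_b5
    · exact outer_b6
  ) p hp
  simpa using h

end Cfsg.Agent.Fus.Fi22Out
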