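import Cfsg.Agent.Lib.Fus.TranspClass
import Cfsg.Agent.Lib.Spor.Cos.Fi22.ActBData

/-! Data of the transposition class. -/

set_option autoImplicit false
set_option maxRecDepth 100000
set_option maxHeartbeats 4000000

open Cfsg.Agent.Spor.Cos Cfsg.Agent.Spor.Cos.Triple Cfsg.Agent.Fus.Transp

namespace Cfsg.Agent.Fus.Fi22Out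

open Cfsg.Agent.Spor.Cos.Fi22 (actB)

/-- The points of the generators. -/
def qs : List ℕ := [0, 14, 12, 10, 154, 215, 256, 243, 1965]

/-- The word of the transposition. -/
def tw : List ℕ := [0]

/-- The words from the base to the points of the generators. -/
def qu : List (List ℕ) := [[],
    [0, 1],
    [1, 2, 0, 1],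
    [2, 3, 1, 2, 0, 1],
    [3, 4, 2, 3, 1, 2, 0, 1],
    [4, 5, 3, 4, 2, 3, 1, 2, 0, 1],
    [5, 6, 4, 5, 3, 4, 2, 3, 1, 2, 0, 1],
    [3, 7, 2, 3, 1, 2, 0, 1],
    [7, 8, 3, 7, 2, 3, 1, 2, 0, 1]]

/-- A series of a two-group. -/
def chainH : List (List ℕ) := [[8, 7, 3, 4, 1, 2, 3, 7, 8, 7, 5, 3, 4, 2, 3, 7, 6, 5, 4, 3, 2, 1, 0, 8, 3, 7, 5, 2, 3, 4, 1, 2, 3, 7, 8, 2, 3, 4, 1, 2, 3, 7, 6, 5, 4, 3, 2, 1, 5, 4, 3, 7, 6, 5, 4, 3, 8, 7, 4, 8],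
    [7, 4, 5, 3, 4, 2, 3, 7, 8, 2, 3, 4, 1, 2, 3, 7, 6, 5, 4, 3, 2, 1, 0, 1, 2, 3, 7, 4, 3, 2, 1, 8, 7, 5, 4, 3, 2, 7, 4, 3, 7, 6, 5, 4, 5],
    [1, 2, 3, 7, 8, 5, 3, 4, 2, 3, 7, 6, 5, 4, 3, 2, 1, 0, 5, 4, 3, 7, 4, 5, 2, 3, 4, 1, 2, 3, 7, 8, 7, 3, 4, 2, 3, 7, 6, 5, 4, 3, 2, 1, 7, 3, 4, 2, 3, 7, 5, 4, 3, 2, 8, 7, 5, 4, 3, 7, 4, 5, 6, 5],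
    [7, 8, 5, 4, 3, 7, 5, 1, 2, 3, 4, 0, 1, 2, 3, 7, 8, 5, 3, 4, 1, 2, 3, 7, 6, 5, 4, 3, 2, 1, 0, 7, 5, 3, 4, 2, 3, 7, 8, 5, 3, 4, 1, 2, 3, 7, 6, 5, 4, 3, 2, 1, 4, 3, 7, 8, 5, 3, 4, 2, 3, 7, 6, 5, 4, 3, 2, 5, 4, 3, 7, 5, 6, 8],
    [6, 4, 5, 1, 2, 3, 4, 0, 1, 2, 3, 7, 8, 2, 3, 4, 1, 2, 3, 7, 6, 5, 4, 3, 2, 1, 0, 4, 1, 2, 3, 7, 5, 4, 3, 2, 1, 8, 7, 5, 4, 3, 2, 8, 7, 4, 3, 8, 7, 5, 6, 5, 4, 8],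
    [4, 3, 7, 8, 7, 5, 3, 4, 1, 2, 3, 7, 6, 5, 4, 3, 2, 1, 0, 3, 7, 8, 2, 3, 4, 1, 2, 3, 7, 5, 4, 3, 2, 1, 4, 5, 3, 4, 2, 3, 7, 8, 3, 4, 2, 3, 7, 5, 4, 3, 2, 3, 7, 4, 3, 8, 7, 4, 5, 6, 5, 4, 5, 8],
    [3, 7, 8, 7, 5, 3, 4, 2, 3, 7, 6, 5, 4, 3, 2, 1, 0, 8, 3, 7, 6, 5, 4, 3, 2, 1, 6, 5, 4, 3, 7, 8, 5, 4, 2, 3, 7, 6, 5, 4, 3, 2, 7, 8, 3, 7, 6, 5, 4, 3, 7, 6, 5, 8],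
    [5, 4, 3, 7, 4, 5, 2, 3, 4, 0, 1, 2, 3, 7, 8, 7, 3, 4, 2, 3, 7, 6, 5, 4, 3, 2, 1, 0, 2, 3, 4, 1, 2, 3, 7, 8, 7, 3, 4, 1, 2, 3, 7, 5, 4, 3, 2, 1, 5, 3, 4, 2, 3, 7, 8, 7, 3, 4, 2, 3, 7, 5, 4, 3, 2, 3, 7, 8, 5, 4, 3, 7, 6, 5, 4, 3, 4, 5, 6, 5, 4, 8],
    [4, 3, 7, 8, 5, 4, 2, 3, 7, 4, 5, 2, 3, 4, 1, 2, 3, 7, 8, 5, 2, 3, 4, 1, 2, 3, 7, 6, 5, 4, 3, 2, 1, 0, 5, 4, 3, 7, 4, 5, 2, 3, 4, 1, 2, 3, 7, 8, 5, 4, 1, 2, 3, 7, 6, 5, 4, 3, 2, 1, 3, 7, 6, 5, 4, 3, 2, 3, 7, 8, 5, 4, 3, 7, 6, 5, 4, 3, 6, 5, 4, 5],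
    [3, 4, 2, 3, 7, 8, 5, 3, 4, 2, 3, 7, 6, 4, 5, 1, 2, 3, 4, 0, 1, 2, 3, 7, 8, 5, 2, 3, 4, 1, 2, 3, 7, 6, 5, 4, 3, 2, 1, 0, 5, 3, 4, 1, 2, 3, 7, 8, 5, 2, 3, 4, 1, 2, 3, 7, 6, 5, 4, 3, 2, 1, 3, 4, 2, 3, 7, 8, 2, 3, 7, 4, 5, 3, 4, 2, 3, 7, 6, 5, 4, 3, 2, 8, 7, 6, 5, 4, 8],
    [7, 8, 3, 7, 4, 5, 3, 4, 1, 2, 3, 7, 8, 4, 5, 3, 4, 1, 2, 3, 7, 6, 5, 4, 3, 2, 1, 0, 7, 6, 5, 3, 4, 1, 2, 3, 7, 8, 4, 5, 3, 4, 1, 2, 3, 7, 6, 5, 4, 3, 2, 1, 7, 3, 2, 5, 4, 3, 7, 6, 5, 4, 3, 8, 7, 4],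
    [4, 0, 1, 2, 3, 7, 8, 7, 4, 5, 3, 4, 2, 3, 7, 6, 5, 4, 3, 2, 1, 0, 5, 4, 3, 7, 8, 7, 3, 4, 1, 2, 3, 7, 6, 5, 4, 3, 2, 1, 6, 5, 4, 2, 3, 7, 8, 4, 2, 3, 7, 5, 4, 3, 2, 7, 8, 4, 3, 7, 5, 4, 3, 4, 5, 8],
    [3, 7, 8, 3, 7, 4, 5, 3, 4, 2, 3, 7, 6, 5, 4, 3, 2, 1, 0, 7, 8, 4, 3, 7, 2, 3, 4, 1, 2, 3, 7, 8, 3, 7, 5, 2, 3, 4, 1, 2, 3, 7, 6, 5, 4, 3, 2, 1, 8, 4, 5, 3, 4, 2, 3, 7, 6, 5, 4, 3, 2, 3, 7, 8, 4, 3, 7, 6, 5, 4, 3, 8, 7, 5, 6, 4, 5, 8],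
    [3, 7, 8, 1, 2, 3, 7, 4, 5, 2, 3, 4, 0, 1, 2, 3, 7, 8, 4, 5, 3, 4, 0, 1, 2, 3, 7, 6, 5, 4, 3, 2, 1, 0, 3, 7, 5, 2, 3, 4, 1, 2, 3, 7, 8, 2, 3, 4, 1, 2, 3, 7, 6, 5, 4, 3, 2, 1, 3, 4, 2, 3, 7, 8, 7, 4, 5, 3, 4, 2, 3, 7, 6, 5, 4, 3, 2, 7, 4, 3, 8, 7, 5, 8],
    [6, 5, 4, 1, 2, 3, 7, 8, 4, 5, 3, 4, 2, 3, 7, 6, 5, 4, 3, 2, 1, 0, 8, 7, 5, 6, 4, 5, 3, 4, 1, 2, 3, 7, 8, 4, 5, 2, 3, 4, 1, 2, 3, 7, 6, 5, 4, 3, 2, 1, 2, 3, 7, 4, 5, 3, 4, 2, 3, 7, 6, 5, 4, 3, 2, 8, 7, 5, 4, 3, 5, 6, 5, 4],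
    [8, 4, 5, 3, 4, 2, 3, 7, 3, 4, 5, 1, 2, 3, 4, 0, 1, 2, 3, 7, 8, 4, 5, 3, 4, 1, 2, 3, 7, 6, 5, 4, 3, 2, 1, 0, 7, 8, 7, 4, 5, 2, 3, 4, 1, 2, 3, 7, 6, 5, 4, 3, 2, 1, 6, 5, 4, 3, 7, 8, 4, 5, 3, 4, 2, 3, 7, 6, 5, 4, 3, 2, 8, 5, 4, 3, 7, 6, 5, 4, 3, 7, 4, 5, 6, 5, 4, 5],
    [7, 8, 5, 4, 3, 7, 5, 2, 3, 4, 0, 1, 2, 3, 7, 8, 4, 5, 2, 3, 4, 1, 2, 3, 7, 6, 5, 4, 3, 2, 1, 0, 6, 5, 4, 1, 2, 3, 7, 8, 7, 4, 5, 3, 4, 1, 2, 3, 7, 6, 5, 4, 3, 2, 1, 5, 6, 4, 5, 3, 4, 2, 3, 7, 8, 3, 4, 2, 3, 7, 5, 4, 3, 2, 8, 5, 4, 3, 7, 6, 5, 4, 3, 8]]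

/-- Its squares and commutators. -/
def chainE : List (List ℕ) := [[0],
    [0, 0],
    [0, 0, 0],
    [0, 0, 0, 0],
    [0, 0, 0, 0, 0],
    [0, 0, 0, 0, 0, 0],
    [0, 0, 0, 0, 0, 1, 0],
    [0, 0, 0, 0, 1, 1, 0, 0],
    [0, 0, 0, 0, 0, 0, 0, 0, 0],
    [0, 0, 0, 0, 0, 1, 5, 13, 0, 5],
    [0, 0, 0, 1, 1, 1, 1, 4, 5, 31, 0],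
    [0, 0, 0, 1, 5, 8, 4, 8, 5, 19, 82, 90],
    [0, 0, 0, 0, 4, 8, 13, 11, 0, 5, 110, 366, 269],
    [0, 1, 0, 5, 9, 17, 9, 75, 1, 258, 492, 419, 533, 3287],
    [0, 0, 1, 1, 1, 1, 1, 15, 14, 60, 1, 441, 410, 1522, 1],
    [0, 0, 1, 0, 4, 8, 27, 52, 10, 57, 73, 767, 951, 6698, 439, 688],
    [0, 0, 0, 0, 9, 15, 13, 10, 0, 267, 429, 419, 9, 3457, 466, 7175, 265]]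

/-- The elements squared. -/
def sqM : List ℕ := [59294, 113474, 112310, 121138, 102395]

/-- Their squares. -/
def sW : List (List ℕ) := [[7, 8, 2, 3, 7, 4, 5, 2, 3, 4, 0, 1, 2, 3, 7, 8, 5, 3, 4, 1, 2, 3, 7, 6, 5, 4, 3, 2, 1, 0, 3, 2, 1, 5, 4, 2, 3, 7, 8, 5, 4, 2, 3, 7, 6, 5, 4, 3, 2, 8, 3, 7, 5, 4, 3, 7, 6, 5],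
    [6, 5, 3, 4, 2, 3, 7, 8, 7, 3, 4, 2, 3, 7, 5, 4, 3, 2, 1, 0, 6, 5, 4, 3, 7, 8, 4, 5, 3, 4, 2, 3, 7, 6, 5, 4, 3, 2, 1, 2, 3, 7, 8, 4, 5, 3, 4, 2, 3, 7, 6, 5, 4, 3, 2, 7, 8, 3, 7, 4, 3, 8, 7, 5, 4, 5],
    [5, 3, 4, 1, 2, 3, 7, 8, 3, 4, 2, 3, 7, 6, 5, 4, 3, 2, 1, 0, 6, 5, 4, 2, 3, 7, 8, 2, 3, 4, 1, 2, 3, 7, 6, 5, 4, 3, 2, 1, 8, 7, 3, 4, 2, 3, 7, 5, 4, 3, 2, 4, 3, 6, 5, 8],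
    [6, 5, 4, 3, 7, 6, 5, 2, 3, 4, 1, 2, 3, 7, 8, 5, 2, 3, 4, 1, 2, 3, 7, 6, 5, 4, 3, 2, 1, 0, 6, 5, 3, 4, 1, 2, 3, 7, 8, 5, 4, 1, 2, 3, 7, 6, 5, 4, 3, 2, 1, 3, 7, 6, 5, 4, 3, 2, 3, 7, 4, 3, 7, 4, 5, 6, 4, 5],
    [5, 4, 3, 7, 8, 5, 4, 2, 3, 7, 3, 4, 5, 1, 2, 3, 4, 0, 1, 2, 3, 7, 8, 4, 5, 2, 3, 4, 1, 2, 3, 7, 6, 5, 4, 3, 2, 1, 0, 7, 8, 3, 7, 6, 4, 5, 2, 3, 4, 1, 2, 3, 7, 8, 5, 3, 4, 1, 2, 3, 7, 6, 5, 4, 3, 2, 1, 7, 8, 4, 3, 7, 5, 4, 3, 4, 5, 6, 8]]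

/-- A representative. -/
def rt0 : Rt := ⟨0, [([4, 3, 7, 8, 2, 3, 7, 6, 4, 5, 3, 4, 1, 2, 3, 7, 8, 4, 5, 3, 4, 1, 2, 3, 7, 6, 5, 4, 3, 2, 1, 0, 8, 7, 3, 4, 1, 2, 3, 7, 8, 5, 4, 3, 7, 6, 5, 4, 3, 2, 1, 4, 5, 3, 4, 2, 3, 7, 8, 5, 3, 4, 2, 3, 7, 6, 5, 4, 3, 2, 7, 8, 4, 3, 7, 5, 4, 3, 8, 7, 4, 5, 6, 5, 4, 5, 8], [5, 6, 5, 7, 3, 4, 3, 0]),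
    ([5, 4, 3, 7, 6, 5, 2, 3, 4, 0, 1, 2, 3, 7, 8, 5, 4, 2, 3, 7, 6, 5, 4, 3, 2, 1, 0, 3, 7, 4, 5, 3, 4, 1, 2, 3, 7, 8, 7, 3, 4, 2, 3, 7, 5, 4, 3, 2, 1, 7, 5, 3, 4, 2, 3, 7, 8, 5, 4, 2, 3, 7, 6, 5, 4, 3, 2, 7, 4, 3, 7, 5, 6, 4, 5], [9, 9, 9, 3, 2, 1, 4, 0])], [0, 187, 313, 871, 898, 938, 1015, 1384, 1535, 1955, 2312, 2874, 3003, 3285]⟩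

/-- A representative. -/
def rt1 : Rt := ⟨14, [([8, 3, 4, 0, 1, 2, 3, 7, 5, 4, 3, 2, 1, 0, 1, 2, 3, 7, 4, 3, 2, 1, 2, 3, 7, 4, 3, 2, 4, 3, 7, 5, 4, 3, 5, 4, 5, 8], [5, 9, 8, 5, 9, 0, 4, 3, 4, 0]),
    ([8, 7, 2, 3, 4, 1, 2, 3, 7, 8, 2, 3, 4, 1, 2, 3, 7, 6, 5, 4, 3, 2, 1, 0, 1, 2, 3, 7, 8, 4, 3, 7, 5, 4, 3, 2, 1, 3, 7, 4, 3, 2, 3, 7, 6, 4, 8], [7, 7, 6, 4, 1, 2, 4, 2]),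
    ([7, 8, 0, 1, 2, 3, 7, 6, 5, 4, 3, 2, 1, 0, 3, 4, 2, 3, 7, 8, 7, 2, 3, 4, 1, 2, 3, 7, 5, 4, 3, 2, 1, 8, 7, 5, 4, 3, 2, 7, 4, 3, 8, 7, 6, 8], [9, 0, 1, 0, 1]),
    ([7, 2, 3, 4, 1, 2, 3, 7, 8, 5, 4, 0, 1, 2, 3, 7, 6, 5, 4, 3, 2, 1, 0, 3, 7, 4, 5, 3, 4, 2, 3, 7, 8, 1, 2, 3, 7, 6, 5, 4, 3, 2, 1, 7, 8, 3, 7, 4, 3, 2, 4, 3, 8, 7, 4], [8, 5, 6, 9, 2, 0, 3, 0, 0, 0])], [14, 313, 347, 363, 865, 938, 1014, 1015, 1384, 1878, 2526, 2874, 2875, 3003]⟩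

/-- A representative. -/
def rt2 : Rt := ⟨12, [([4, 1, 2, 3, 7, 8, 5, 4, 3, 7, 2, 3, 4, 5, 1, 2, 3, 4, 0, 1, 2, 3, 7, 8, 4, 5, 3, 4, 1, 2, 3, 7, 6, 5, 4, 3, 2, 1, 0, 7, 3, 4, 1, 2, 3, 7, 8, 7, 3, 4, 2, 3, 7, 5, 4, 3, 2, 1, 5, 3, 4, 2, 3, 7, 8, 4, 5, 3, 4, 2, 3, 7, 6, 5, 4, 3, 2, 8, 3, 7, 5, 4, 3, 7, 8], [6, 8, 9, 5, 4, 0, 3, 4, 1, 0]),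
    ([7, 8, 3, 4, 1, 2, 3, 7, 4, 5, 1, 2, 3, 4, 0, 1, 2, 3, 7, 8, 7, 5, 3, 4, 1, 2, 3, 7, 6, 5, 4, 3, 2, 1, 0, 3, 4, 5, 2, 3, 4, 1, 2, 3, 7, 6, 5, 4, 3, 2, 1, 2, 3, 7, 8, 3, 4, 2, 3, 7, 5, 4, 3, 2, 8, 7, 5, 4, 3, 7, 6, 4, 8], [7, 8, 9, 2, 2, 2, 0])], [12, 312, 313, 851, 938, 1015, 1016, 1150, 1384, 1543, 1638, 1722, 2874, 3003]⟩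

/-- A representative. -/
def rt3 : Rt := ⟨10, [([7, 3, 4, 2, 3, 7, 5, 4, 3, 2, 1, 0, 7, 8, 3, 7, 4, 3, 2, 1, 3, 7, 8, 2, 3, 7, 4, 3, 2, 7, 5, 4, 3, 7, 4, 5], [6, 7, 6, 8, 7, 4, 4, 4, 2, 2, 2, 1]),
    ([8, 2, 3, 7, 3, 4, 5, 2, 3, 4, 1, 2, 3, 7, 8, 4, 5, 3, 4, 0, 1, 2, 3, 7, 6, 5, 4, 3, 2, 1, 0, 7, 3, 4, 2, 3, 7, 8, 4, 5, 3, 4, 1, 2, 3, 7, 6, 5, 4, 3, 2, 1, 5, 4, 3, 7, 6, 5, 4, 3, 2, 7, 3, 7, 8], [8, 5, 7, 3, 2, 4, 2, 2]),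
    ([4, 3, 7, 8, 7, 3, 4, 1, 2, 3, 7, 5, 4, 3, 2, 1, 0, 8, 4, 3, 7, 5, 6, 4, 5, 3, 4, 2, 3, 7, 8, 3, 4, 5, 2, 3, 4, 1, 2, 3, 7, 6, 5, 4, 3, 2, 1, 2, 3, 7, 4, 5, 3, 4, 2, 3, 7, 6, 5, 4, 3, 2, 7, 8, 3, 7, 5, 4, 3, 5, 6, 5, 4], [5, 8, 5, 7, 5, 3, 1, 3, 0, 4, 1])], [10, 101, 133, 721, 824, 834, 835, 896, 938, 1359, 1384, 2013, 2177, 2615]⟩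

/-- A representative. -/
def rt4 : Rt := ⟨154, [([6, 5, 4, 1, 2, 3, 7, 8, 4, 5, 2, 3, 4, 1, 2, 3, 7, 6, 5, 4, 3, 2, 1, 0, 8, 7, 3, 4, 1, 2, 3, 7, 8, 5, 2, 3, 4, 1, 2, 3, 7, 6, 5, 4, 3, 2, 1, 5, 3, 4, 2, 3, 7, 8, 3, 4, 2, 3, 7, 6, 5, 4, 3, 2, 8, 4, 3, 7, 5, 4, 3, 7, 4, 5, 6, 4, 8], [5, 7, 8, 5, 4, 0, 1, 0, 0, 0]),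
    ([7, 3, 4, 1, 2, 3, 7, 8, 7, 4, 5, 3, 4, 2, 3, 7, 6, 5, 4, 3, 2, 1, 0, 6, 5, 2, 3, 4, 1, 2, 3, 7, 8, 5, 4, 2, 3, 7, 6, 5, 4, 3, 2, 1, 3, 7, 8, 2, 3, 7, 4, 3, 2, 4, 3, 7, 6, 5, 4, 3, 5, 4, 5, 8], [5, 8, 6, 5, 9, 2, 0, 1, 0, 4, 2])], [154, 236, 313, 648, 673, 938, 1015, 1384, 1409, 1881, 2378, 2613, 2874, 3003]⟩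

/-- A representative. -/
def rt5 : Rt := ⟨215, [([2, 3, 7, 8, 4, 0, 1, 2, 3, 7, 5, 4, 3, 2, 1, 0, 8, 7, 3, 4, 2, 3, 7, 8, 4, 1, 2, 3, 7, 6, 5, 4, 3, 2, 1, 6, 5, 4, 2, 3, 7, 8, 4, 5, 3, 4, 2, 3, 7, 6, 5, 4, 3, 2, 4, 3, 6, 5, 4, 5, 8], [6, 3, 2]),
    ([4, 5, 1, 2, 3, 4, 0, 1, 2, 3, 7, 8, 4, 5, 3, 4, 2, 3, 7, 6, 5, 4, 3, 2, 1, 0, 7, 8, 6, 5, 4, 3, 7, 2, 3, 4, 1, 2, 3, 7, 8, 4, 5, 2, 3, 4, 1, 2, 3, 7, 6, 5, 4, 3, 2, 1, 3, 7, 8, 2, 3, 7, 4, 5, 3, 4, 2, 3, 7, 6, 5, 4, 3, 2, 7, 8, 3, 7, 6, 5, 4, 3, 7, 4, 5, 6, 8], [8, 6, 8, 9, 3, 4, 0, 0, 2])], [172, 215, 313, 745, 826, 938, 1015, 1172, 1384, 1512, 1519, 2874, 3003, 3242]⟩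

/-- A representative. -/
def rt6 : Rt := ⟨256, [([7, 2, 3, 4, 1, 2, 3, 7, 8, 5, 4, 0, 1, 2, 3, 7, 6, 5, 4, 3, 2, 1, 0, 3, 7, 4, 5, 3, 4, 2, 3, 7, 8, 1, 2, 3, 7, 6, 5, 4, 3, 2, 1, 7, 8, 3, 7, 4, 3, 2, 4, 3, 8, 7, 4], [6, 9, 7, 5, 7, 1, 2, 4, 4, 0, 0, 1]),
    ([3, 7, 2, 3, 4, 1, 2, 3, 7, 8, 5, 4, 1, 2, 3, 7, 6, 5, 4, 3, 2, 1, 0, 1, 2, 3, 7, 8, 4, 3, 7, 5, 4, 3, 2, 1, 8, 7, 6, 5, 4, 3, 2, 8, 7, 4, 3, 7], [5, 5, 5, 9, 7, 4, 3, 0, 3, 2, 1])], [256, 298, 572, 938, 1206, 1384, 1458, 1983, 2538, 2580, 2680, 2809, 2964, 3027]⟩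

/-- A representative. -/
def rt7 : Rt := ⟨243, [([6, 4, 5, 2, 3, 4, 1, 2, 3, 7, 8, 3, 4, 2, 3, 7, 6, 5, 4, 3, 2, 1, 0, 5, 4, 1, 2, 3, 7, 8, 4, 2, 3, 7, 5, 4, 3, 2, 1, 8, 3, 7, 4, 3, 2, 4, 5, 6, 5, 4], [7, 9, 7, 9, 1, 0, 1, 4, 0]),
    ([3, 7, 4, 5, 3, 4, 1, 2, 3, 7, 8, 4, 5, 2, 3, 4, 1, 2, 3, 7, 6, 5, 4, 3, 2, 1, 0, 4, 3, 7, 2, 3, 4, 1, 2, 3, 7, 8, 4, 5, 3, 4, 2, 3, 7, 6, 5, 4, 3, 2, 1, 2, 3, 7, 8, 4, 3, 7, 5, 4, 3, 4], [5, 8, 6, 7, 7, 0, 4, 2, 0, 1, 0])], [243, 250, 320, 584, 600, 767, 938, 976, 987, 1043, 1352, 1384, 2025, 2222]⟩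

/-- The representatives. -/
def rts : List Rt := [rt0, rt1, rt2, rt3, rt4, rt5, rt6, rt7]

/-- A generator point. -/
def dv0 : Dv := ⟨0, [], [], [⟨0, [], [0]⟩,
    ⟨187, [5, 4, 2, 3, 7, 8, 1, 2, 3, 7, 5, 4, 3, 2, 1], [5, 4, 2, 3, 7, 8, 1, 2, 3, 7, 5, 4, 3, 2, 1, 0, 1, 2, 3, 4, 5, 7, 3, 2, 1, 8, 7, 3, 2, 4, 5]⟩,
    ⟨313, [8, 7, 2, 3, 4, 1, 2, 3, 7, 5, 4, 3, 2, 1], [8, 7, 2, 3, 4, 1, 2, 3, 7, 5, 4, 3, 2, 1, 0, 1, 2, 3, 4, 5, 7, 3, 2, 1, 4, 3, 2, 7, 8]⟩,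
    ⟨871, [5, 3, 4, 2, 3, 7, 8, 5, 2, 3, 4, 1, 2, 3, 7, 6, 5, 4, 3, 2, 1], [5, 3, 4, 2, 3, 7, 8, 5, 2, 3, 4, 1, 2, 3, 7, 6, 5, 4, 3, 2, 1, 0, 1, 2, 3, 4, 5, 6, 7, 3, 2, 1, 4, 3, 2, 5, 8, 7, 3, 2, 4, 3, 5]⟩,
    ⟨898, [7, 3, 4, 1, 2, 3, 7, 8, 3, 4, 1, 2, 3, 7, 6, 5, 4, 3, 2, 1], [7, 3, 4, 1, 2, 3, 7, 8, 3, 4, 1, 2, 3, 7, 6, 5, 4, 3, 2, 1, 0, 1, 2, 3, 4, 5, 6, 7, 3, 2, 1, 4, 3, 8, 7, 3, 2, 1, 4, 3, 7]⟩,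
    ⟨938, [7, 3, 4, 0, 1, 2, 3, 7, 8, 3, 4, 1, 2, 3, 7, 6, 5, 4, 3, 2, 1], [7, 3, 4, 0, 1, 2, 3, 7, 8, 3, 4, 1, 2, 3, 7, 6, 5, 4, 3, 2, 1, 0, 1, 2, 3, 4, 5, 6, 7, 3, 2, 1, 4, 3, 8, 7, 3, 2, 1, 0, 4, 3, 7]⟩,
    ⟨1015, [3, 7, 4, 5, 3, 4, 1, 2, 3, 7, 8, 5, 3, 4, 1, 2, 3, 7, 6, 5, 4, 3, 2, 1], [3, 7, 4, 5, 3, 4, 1, 2, 3, 7, 8, 5, 3, 4, 1, 2, 3, 7, 6, 5, 4, 3, 2, 1, 0, 1, 2, 3, 4, 5, 6, 7, 3, 2, 1, 4, 3, 5, 8, 7, 3, 2, 1, 4, 3, 5, 4, 7, 3]⟩,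
    ⟨1384, [7, 4, 5, 3, 4, 2, 3, 7, 8, 2, 3, 4, 1, 2, 3, 7, 6, 5, 4, 3, 2, 1], [7, 4, 5, 3, 4, 2, 3, 7, 8, 2, 3, 4, 1, 2, 3, 7, 6, 5, 4, 3, 2, 1, 0, 1, 2, 3, 4, 5, 6, 7, 3, 2, 1, 4, 3, 2, 8, 7, 3, 2, 4, 3, 5, 4, 7]⟩,
    ⟨1535, [3, 7, 4, 5, 3, 4, 0, 1, 2, 3, 7, 8, 5, 3, 4, 1, 2, 3, 7, 6, 5, 4, 3, 2, 1], [3, 7, 4, 5, 3, 4, 0, 1, 2, 3, 7, 8, 5, 3, 4, 1, 2, 3, 7, 6, 5, 4, 3, 2, 1, 0, 1, 2, 3, 4, 5, 6, 7, 3, 2, 1, 4, 3, 5, 8, 7, 3, 2, 1, 0, 4, 3, 5, 4, 7, 3]⟩,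
    ⟨1955, [8, 6, 5, 4, 3, 7, 2, 3, 4, 1, 2, 3, 7, 8, 5, 2, 3, 4, 1, 2, 3, 7, 6, 5, 4, 3, 2, 1], [8, 6, 5, 4, 3, 7, 2, 3, 4, 1, 2, 3, 7, 8, 5, 2, 3, 4, 1, 2, 3, 7, 6, 5, 4, 3, 2, 1, 0, 1, 2, 3, 4, 5, 6, 7, 3, 2, 1, 4, 3, 2, 5, 8, 7, 3, 2, 1, 4, 3, 2, 7, 3, 4, 5, 6, 8]⟩,
    ⟨2312, [8, 2, 3, 7, 6, 4, 5, 3, 4, 0, 1, 2, 3, 7, 8, 4, 5, 3, 4, 1, 2, 3, 7, 6, 5, 4, 3, 2, 1], [8, 2, 3, 7, 6, 4, 5, 3, 4, 0, 1, 2, 3, 7, 8, 4, 5, 3, 4, 1, 2, 3, 7, 6, 5, 4, 3, 2, 1, 0, 1, 2, 3, 4, 5, 6, 7, 3, 2, 1, 4, 3, 5, 4, 8, 7, 3, 2, 1, 0, 4, 3, 5, 4, 6, 7, 3, 2, 8]⟩,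
    ⟨2874, [8, 2, 3, 7, 6, 4, 5, 3, 4, 1, 2, 3, 7, 8, 4, 5, 3, 4, 1, 2, 3, 7, 6, 5, 4, 3, 2, 1], [8, 2, 3, 7, 6, 4, 5, 3, 4, 1, 2, 3, 7, 8, 4, 5, 3, 4, 1, 2, 3, 7, 6, 5, 4, 3, 2, 1, 0, 1, 2, 3, 4, 5, 6, 7, 3, 2, 1, 4, 3, 5, 4, 8, 7, 3, 2, 1, 4, 3, 5, 4, 6, 7, 3, 2, 8]⟩,
    ⟨3003, [8, 1, 2, 3, 7, 4, 5, 2, 3, 4, 1, 2, 3, 7, 8, 5, 4, 1, 2, 3, 7, 6, 5, 4, 3, 2, 1], [8, 1, 2, 3, 7, 4, 5, 2, 3, 4, 1, 2, 3, 7, 8, 5, 4, 1, 2, 3, 7, 6, 5, 4, 3, 2, 1, 0, 1, 2, 3, 4, 5, 6, 7, 3, 2, 1, 4, 5, 8, 7, 3, 2, 1, 4, 3, 2, 5, 4, 7, 3, 2, 1, 8]⟩,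
    ⟨3285, [8, 7, 3, 4, 2, 3, 7, 8, 4, 5, 3, 4, 1, 2, 3, 7, 6, 5, 4, 3, 2, 1], [8, 7, 3, 4, 2, 3, 7, 8, 4, 5, 3, 4, 1, 2, 3, 7, 6, 5, 4, 3, 2, 1, 0, 1, 2, 3, 4, 5, 6, 7, 3, 2, 1, 4, 3, 5, 4, 8, 7, 3, 2, 4, 3, 7, 8]⟩]⟩

/-- A generator point. -/
def dv1 : Dv := ⟨1, [], [], [⟨14, [0, 1], [1]⟩,
    ⟨313, [8, 7, 2, 3, 4, 1, 2, 3, 7, 5, 4, 3, 2, 1], [8, 7, 2, 3, 4, 1, 2, 3, 7, 5, 4, 3, 2, 1, 0, 1, 2, 3, 4, 5, 7, 3, 2, 1, 4, 3, 2, 7, 8]⟩,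
    ⟨347, [5, 3, 4, 0, 1, 2, 3, 7, 8, 5, 3, 4, 1, 2, 3, 7, 6, 5, 4, 3, 2, 1], [5, 3, 4, 0, 1, 2, 3, 7, 8, 5, 3, 4, 1, 2, 3, 7, 6, 5, 4, 3, 2, 1, 0, 1, 2, 3, 4, 5, 6, 7, 3, 2, 1, 4, 3, 5, 8, 7, 3, 2, 1, 0, 4, 3, 5]⟩,
    ⟨363, [2, 3, 7, 8, 1, 2, 3, 7, 4, 3, 2, 1], [2, 3, 7, 8, 1, 2, 3, 7, 4, 3, 2, 1, 0, 1, 2, 3, 4, 7, 3, 2, 1, 8, 7, 3, 2]⟩,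
    ⟨865, [7, 4, 5, 3, 4, 1, 2, 3, 7, 8, 2, 3, 4, 1, 2, 3, 7, 6, 5, 4, 3, 2, 1], [7, 4, 5, 3, 4, 1, 2, 3, 7, 8, 2, 3, 4, 1, 2, 3, 7, 6, 5, 4, 3, 2, 1, 0, 1, 2, 3, 4, 5, 6, 7, 3, 2, 1, 4, 3, 2, 8, 7, 3, 2, 1, 4, 3, 5, 4, 7]⟩,
    ⟨938, [7, 3, 4, 0, 1, 2, 3, 7, 8, 3, 4, 1, 2, 3, 7, 6, 5, 4, 3, 2, 1], [7, 3, 4, 0, 1, 2, 3, 7, 8, 3, 4, 1, 2, 3, 7, 6, 5, 4, 3, 2, 1, 0, 1, 2, 3, 4, 5, 6, 7, 3, 2, 1, 4, 3, 8, 7, 3, 2, 1, 0, 4, 3, 7]⟩,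
    ⟨1014, [3, 7, 4, 5, 3, 4, 2, 3, 7, 8, 5, 3, 4, 1, 2, 3, 7, 6, 5, 4, 3, 2, 1], [3, 7, 4, 5, 3, 4, 2, 3, 7, 8, 5, 3, 4, 1, 2, 3, 7, 6, 5, 4, 3, 2, 1, 0, 1, 2, 3, 4, 5, 6, 7, 3, 2, 1, 4, 3, 5, 8, 7, 3, 2, 4, 3, 5, 4, 7, 3]⟩,
    ⟨1015, [3, 7, 4, 5, 3, 4, 1, 2, 3, 7, 8, 5, 3, 4, 1, 2, 3, 7, 6, 5, 4, 3, 2, 1], [3, 7, 4, 5, 3, 4, 1, 2, 3, 7, 8, 5, 3, 4, 1, 2, 3, 7, 6, 5, 4, 3, 2, 1, 0, 1, 2, 3, 4, 5, 6, 7, 3, 2, 1, 4, 3, 5, 8, 7, 3, 2, 1, 4, 3, 5, 4, 7, 3]⟩,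
    ⟨1384, [7, 4, 5, 3, 4, 2, 3, 7, 8, 2, 3, 4, 1, 2, 3, 7, 6, 5, 4, 3, 2, 1], [7, 4, 5, 3, 4, 2, 3, 7, 8, 2, 3, 4, 1, 2, 3, 7, 6, 5, 4, 3, 2, 1, 0, 1, 2, 3, 4, 5, 6, 7, 3, 2, 1, 4, 3, 2, 8, 7, 3, 2, 4, 3, 5, 4, 7]⟩,
    ⟨1878, [8, 2, 3, 7, 4, 5, 2, 3, 4, 1, 2, 3, 7, 8, 5, 4, 1, 2, 3, 7, 6, 5, 4, 3, 2, 1], [8, 2, 3, 7, 4, 5, 2, 3, 4, 1, 2, 3, 7, 8, 5, 4, 1, 2, 3, 7, 6, 5, 4, 3, 2, 1, 0, 1, 2, 3, 4, 5, 6, 7, 3, 2, 1, 4, 5, 8, 7, 3, 2, 1, 4, 3, 2, 5, 4, 7, 3, 2, 8]⟩,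
    ⟨2526, [8, 7, 4, 5, 3, 4, 0, 1, 2, 3, 7, 8, 4, 5, 2, 3, 4, 1, 2, 3, 7, 6, 5, 4, 3, 2, 1], [8, 7, 4, 5, 3, 4, 0, 1, 2, 3, 7, 8, 4, 5, 2, 3, 4, 1, 2, 3, 7, 6, 5, 4, 3, 2, 1, 0, 1, 2, 3, 4, 5, 6, 7, 3, 2, 1, 4, 3, 2, 5, 4, 8, 7, 3, 2, 1, 0, 4, 3, 5, 4, 7, 8]⟩,
    ⟨2874, [8, 2, 3, 7, 6, 4, 5, 3, 4, 1, 2, 3, 7, 8, 4, 5, 3, 4, 1, 2, 3, 7, 6, 5, 4, 3, 2, 1], [8, 2, 3, 7, 6, 4, 5, 3, 4, 1, 2, 3, 7, 8, 4, 5, 3, 4, 1, 2, 3, 7, 6, 5, 4, 3, 2, 1, 0, 1, 2, 3, 4, 5, 6, 7, 3, 2, 1, 4, 3, 5, 4, 8, 7, 3, 2, 1, 4, 3, 5, 4, 6, 7, 3, 2, 8]⟩,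
    ⟨2875, [8, 2, 3, 7, 4, 5, 3, 4, 1, 2, 3, 7, 8, 7, 4, 5, 2, 3, 4, 1, 2, 3, 7, 6, 5, 4, 3, 2, 1], [8, 2, 3, 7, 4, 5, 3, 4, 1, 2, 3, 7, 8, 7, 4, 5, 2, 3, 4, 1, 2, 3, 7, 6, 5, 4, 3, 2, 1, 0, 1, 2, 3, 4, 5, 6, 7, 3, 2, 1, 4, 3, 2, 5, 4, 7, 8, 7, 3, 2, 1, 4, 3, 5, 4, 7, 3, 2, 8]⟩,
    ⟨3003, [8, 1, 2, 3, 7, 4, 5, 2, 3, 4, 1, 2, 3, 7, 8, 5, 4, 1, 2, 3, 7, 6, 5, 4, 3, 2, 1], [8, 1, 2, 3, 7, 4, 5, 2, 3, 4, 1, 2, 3, 7, 8, 5, 4, 1, 2, 3, 7, 6, 5, 4, 3, 2, 1, 0, 1, 2, 3, 4, 5, 6, 7, 3, 2, 1, 4, 5, 8, 7, 3, 2, 1, 4, 3, 2, 5, 4, 7, 3, 2, 1, 8]⟩]⟩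

/-- A generator point. -/
def dv2 : Dv := ⟨2, [], [], [⟨12, [1, 2, 0, 1], [2]⟩,
    ⟨312, [8, 7, 3, 4, 1, 2, 3, 7, 5, 4, 3, 2, 1], [8, 7, 3, 4, 1, 2, 3, 7, 5, 4, 3, 2, 1, 0, 1, 2, 3, 4, 5, 7, 3, 2, 1, 4, 3, 7, 8]⟩,
    ⟨313, [8, 7, 2, 3, 4, 1, 2, 3, 7, 5, 4, 3, 2, 1], [8, 7, 2, 3, 4, 1, 2, 3, 7, 5, 4, 3, 2, 1, 0, 1, 2, 3, 4, 5, 7, 3, 2, 1, 4, 3, 2, 7, 8]⟩,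
    ⟨851, [4, 1, 2, 3, 7, 8, 3, 7, 5, 2, 3, 4, 1, 2, 3, 7, 6, 5, 4, 3, 2, 1], [4, 1, 2, 3, 7, 8, 3, 7, 5, 2, 3, 4, 1, 2, 3, 7, 6, 5, 4, 3, 2, 1, 0, 1, 2, 3, 4, 5, 6, 7, 3, 2, 1, 4, 3, 2, 5, 7, 3, 8, 7, 3, 2, 1, 4]⟩,
    ⟨938, [7, 3, 4, 0, 1, 2, 3, 7, 8, 3, 4, 1, 2, 3, 7, 6, 5, 4, 3, 2, 1], [7, 3, 4, 0, 1, 2, 3, 7, 8, 3, 4, 1, 2, 3, 7, 6, 5, 4, 3, 2, 1, 0, 1, 2, 3, 4, 5, 6, 7, 3, 2, 1, 4, 3, 8, 7, 3, 2, 1, 0, 4, 3, 7]⟩,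
    ⟨1015, [3, 7, 4, 5, 3, 4, 1, 2, 3, 7, 8, 5, 3, 4, 1, 2, 3, 7, 6, 5, 4, 3, 2, 1], [3, 7, 4, 5, 3, 4, 1, 2, 3, 7, 8, 5, 3, 4, 1, 2, 3, 7, 6, 5, 4, 3, 2, 1, 0, 1, 2, 3, 4, 5, 6, 7, 3, 2, 1, 4, 3, 5, 8, 7, 3, 2, 1, 4, 3, 5, 4, 7, 3]⟩,
    ⟨1016, [2, 3, 7, 4, 5, 3, 4, 1, 2, 3, 7, 8, 5, 3, 4, 1, 2, 3, 7, 6, 5, 4, 3, 2, 1], [2, 3, 7, 4, 5, 3, 4, 1, 2, 3, 7, 8, 5, 3, 4, 1, 2, 3, 7, 6, 5, 4, 3, 2, 1, 0, 1, 2, 3, 4, 5, 6, 7, 3, 2, 1, 4, 3, 5, 8, 7, 3, 2, 1, 4, 3, 5, 4, 7, 3, 2]⟩,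
    ⟨1150, [8, 7, 3, 4, 1, 2, 3, 7, 8, 2, 3, 4, 1, 2, 3, 7, 6, 5, 4, 3, 2, 1], [8, 7, 3, 4, 1, 2, 3, 7, 8, 2, 3, 4, 1, 2, 3, 7, 6, 5, 4, 3, 2, 1, 0, 1, 2, 3, 4, 5, 6, 7, 3, 2, 1, 4, 3, 2, 8, 7, 3, 2, 1, 4, 3, 7, 8]⟩,
    ⟨1384, [7, 4, 5, 3, 4, 2, 3, 7, 8, 2, 3, 4, 1, 2, 3, 7, 6, 5, 4, 3, 2, 1], [7, 4, 5, 3, 4, 2, 3, 7, 8, 2, 3, 4, 1, 2, 3, 7, 6, 5, 4, 3, 2, 1, 0, 1, 2, 3, 4, 5, 6, 7, 3, 2, 1, 4, 3, 2, 8, 7, 3, 2, 4, 3, 5, 4, 7]⟩,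
    ⟨1543, [7, 3, 4, 5, 2, 3, 4, 1, 2, 3, 7, 8, 4, 5, 3, 4, 1, 2, 3, 7, 6, 5, 4, 3, 2, 1], [7, 3, 4, 5, 2, 3, 4, 1, 2, 3, 7, 8, 4, 5, 3, 4, 1, 2, 3, 7, 6, 5, 4, 3, 2, 1, 0, 1, 2, 3, 4, 5, 6, 7, 3, 2, 1, 4, 3, 5, 4, 8, 7, 3, 2, 1, 4, 3, 2, 5, 4, 3, 7]⟩,
    ⟨1638, [5, 4, 1, 2, 3, 7, 8, 7, 4, 5, 2, 3, 4, 1, 2, 3, 7, 6, 5, 4, 3, 2, 1], [5, 4, 1, 2, 3, 7, 8, 7, 4, 5, 2, 3, 4, 1, 2, 3, 7, 6, 5, 4, 3, 2, 1, 0, 1, 2, 3, 4, 5, 6, 7, 3, 2, 1, 4, 3, 2, 5, 4, 7, 8, 7, 3, 2, 1, 4, 5]⟩,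
    ⟨1722, [8, 3, 7, 6, 4, 5, 3, 4, 1, 2, 3, 7, 8, 4, 5, 3, 4, 1, 2, 3, 7, 6, 5, 4, 3, 2, 1], [8, 3, 7, 6, 4, 5, 3, 4, 1, 2, 3, 7, 8, 4, 5, 3, 4, 1, 2, 3, 7, 6, 5, 4, 3, 2, 1, 0, 1, 2, 3, 4, 5, 6, 7, 3, 2, 1, 4, 3, 5, 4, 8, 7, 3, 2, 1, 4, 3, 5, 4, 6, 7, 3, 8]⟩,
    ⟨2874, [8, 2, 3, 7, 6, 4, 5, 3, 4, 1, 2, 3, 7, 8, 4, 5, 3, 4, 1, 2, 3, 7, 6, 5, 4, 3, 2, 1], [8, 2, 3, 7, 6, 4, 5, 3, 4, 1, 2, 3, 7, 8, 4, 5, 3, 4, 1, 2, 3, 7, 6, 5, 4, 3, 2, 1, 0, 1, 2, 3, 4, 5, 6, 7, 3, 2, 1, 4, 3, 5, 4, 8, 7, 3, 2, 1, 4, 3, 5, 4, 6, 7, 3, 2, 8]⟩,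
    ⟨3003, [8, 1, 2, 3, 7, 4, 5, 2, 3, 4, 1, 2, 3, 7, 8, 5, 4, 1, 2, 3, 7, 6, 5, 4, 3, 2, 1], [8, 1, 2, 3, 7, 4, 5, 2, 3, 4, 1, 2, 3, 7, 8, 5, 4, 1, 2, 3, 7, 6, 5, 4, 3, 2, 1, 0, 1, 2, 3, 4, 5, 6, 7, 3, 2, 1, 4, 5, 8, 7, 3, 2, 1, 4, 3, 2, 5, 4, 7, 3, 2, 1, 8]⟩]⟩

/-- A generator point. -/
def dv3 : Dv := ⟨3, [], [], [⟨10, [2, 3, 1, 2, 0, 1], [3]⟩,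
    ⟨101, [2, 3, 7, 5, 4, 3, 2, 0, 1], [2, 3, 7, 5, 4, 3, 2, 1, 2, 3, 7, 4, 3, 2, 5]⟩,
    ⟨133, [4, 5, 3, 4, 2, 3, 7, 8, 2, 3, 4, 1, 2, 3, 7, 5, 4, 3, 2, 1], [4, 5, 3, 4, 2, 3, 7, 8, 2, 3, 4, 1, 2, 3, 7, 5, 4, 3, 2, 1, 0, 1, 2, 3, 4, 5, 7, 3, 2, 1, 4, 3, 2, 8, 7, 3, 2, 4, 3, 5, 4]⟩,
    ⟨721, [7, 6, 5, 3, 4, 0, 1, 2, 3, 7, 8, 5, 4, 1, 2, 3, 7, 6, 5, 4, 3, 2, 1], [7, 6, 5, 3, 4, 0, 1, 2, 3, 7, 8, 5, 4, 1, 2, 3, 7, 6, 5, 4, 3, 2, 1, 0, 1, 2, 3, 4, 5, 6, 7, 3, 2, 1, 4, 5, 8, 7, 3, 2, 1, 0, 4, 3, 5, 6, 7]⟩,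
    ⟨824, [3, 7, 4, 5, 3, 4, 2, 3, 7, 8, 2, 3, 4, 1, 2, 3, 7, 6, 5, 4, 3, 2, 1], [3, 7, 4, 5, 3, 4, 2, 3, 7, 8, 2, 3, 4, 1, 2, 3, 7, 6, 5, 4, 3, 2, 1, 0, 1, 2, 3, 4, 5, 6, 7, 3, 2, 1, 4, 3, 2, 8, 7, 3, 2, 4, 3, 5, 4, 7, 3]⟩,
    ⟨834, [5, 4, 3, 7, 4, 5, 2, 3, 4, 1, 2, 3, 7, 8, 5, 3, 4, 1, 2, 3, 7, 6, 5, 4, 3, 2, 1], [5, 4, 3, 7, 4, 5, 2, 3, 4, 1, 2, 3, 7, 8, 5, 3, 4, 1, 2, 3, 7, 6, 5, 4, 3, 2, 1, 0, 1, 2, 3, 4, 5, 6, 7, 3, 2, 1, 4, 3, 5, 8, 7, 3, 2, 1, 4, 3, 2, 5, 4, 7, 3, 4, 5]⟩,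
    ⟨835, [5, 4, 3, 7, 5, 2, 3, 4, 1, 2, 3, 7, 8, 5, 3, 4, 1, 2, 3, 7, 6, 5, 4, 3, 2, 1], [5, 4, 3, 7, 5, 2, 3, 4, 1, 2, 3, 7, 8, 5, 3, 4, 1, 2, 3, 7, 6, 5, 4, 3, 2, 1, 0, 1, 2, 3, 4, 5, 6, 7, 3, 2, 1, 4, 3, 5, 8, 7, 3, 2, 1, 4, 3, 2, 5, 7, 3, 4, 5]⟩,
    ⟨896, [7, 3, 4, 0, 1, 2, 3, 7, 8, 4, 1, 2, 3, 7, 6, 5, 4, 3, 2, 1], [7, 3, 4, 0, 1, 2, 3, 7, 8, 4, 1, 2, 3, 7, 6, 5, 4, 3, 2, 1, 0, 1, 2, 3, 4, 5, 6, 7, 3, 2, 1, 4, 8, 7, 3, 2, 1, 0, 4, 3, 7]⟩,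
    ⟨938, [7, 3, 4, 0, 1, 2, 3, 7, 8, 3, 4, 1, 2, 3, 7, 6, 5, 4, 3, 2, 1], [7, 3, 4, 0, 1, 2, 3, 7, 8, 3, 4, 1, 2, 3, 7, 6, 5, 4, 3, 2, 1, 0, 1, 2, 3, 4, 5, 6, 7, 3, 2, 1, 4, 3, 8, 7, 3, 2, 1, 0, 4, 3, 7]⟩,
    ⟨1359, [2, 3, 7, 1, 2, 3, 4, 0, 1, 2, 3, 7, 8, 4, 5, 2, 3, 4, 1, 2, 3, 7, 6, 5, 4, 3, 2, 1], [2, 3, 7, 1, 2, 3, 4, 0, 1, 2, 3, 7, 8, 4, 5, 2, 3, 4, 1, 2, 3, 7, 6, 5, 4, 3, 2, 1, 0, 1, 2, 3, 4, 5, 6, 7, 3, 2, 1, 4, 3, 2, 5, 4, 8, 7, 3, 2, 1, 0, 4, 3, 2, 1, 7, 3, 2]⟩,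
    ⟨1384, [7, 4, 5, 3, 4, 2, 3, 7, 8, 2, 3, 4, 1, 2, 3, 7, 6, 5, 4, 3, 2, 1], [7, 4, 5, 3, 4, 2, 3, 7, 8, 2, 3, 4, 1, 2, 3, 7, 6, 5, 4, 3, 2, 1, 0, 1, 2, 3, 4, 5, 6, 7, 3, 2, 1, 4, 3, 2, 8, 7, 3, 2, 4, 3, 5, 4, 7]⟩,
    ⟨2013, [7, 6, 5, 3, 4, 0, 1, 2, 3, 7, 8, 5, 3, 4, 1, 2, 3, 7, 6, 5, 4, 3, 2, 1], [7, 6, 5, 3, 4, 0, 1, 2, 3, 7, 8, 5, 3, 4, 1, 2, 3, 7, 6, 5, 4, 3, 2, 1, 0, 1, 2, 3, 4, 5, 6, 7, 3, 2, 1, 4, 3, 5, 8, 7, 3, 2, 1, 0, 4, 3, 5, 6, 7]⟩,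
    ⟨2177, [6, 5, 2, 3, 4, 1, 2, 3, 7, 8, 5, 2, 3, 4, 1, 2, 3, 7, 6, 5, 4, 3, 2, 1], [6, 5, 2, 3, 4, 1, 2, 3, 7, 8, 5, 2, 3, 4, 1, 2, 3, 7, 6, 5, 4, 3, 2, 1, 0, 1, 2, 3, 4, 5, 6, 7, 3, 2, 1, 4, 3, 2, 5, 8, 7, 3, 2, 1, 4, 3, 2, 5, 6]⟩,
    ⟨2615, [6, 5, 4, 1, 2, 3, 7, 8, 4, 2, 3, 7, 6, 5, 4, 3, 2, 0, 1], [6, 5, 4, 1, 2, 3, 7, 8, 4, 2, 3, 7, 6, 5, 4, 3, 2, 0, 1, 0, 1, 0, 2, 3, 4, 5, 6, 7, 3, 2, 4, 8, 7, 3, 2, 1, 4, 5, 6]⟩]⟩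

/-- A generator point. -/
def dv4 : Dv := ⟨4, [], [], [⟨154, [3, 4, 2, 3, 1, 2, 0, 1], [4]⟩,
    ⟨236, [3, 4, 2, 3, 7, 8, 3, 4, 2, 3, 7, 5, 4, 3, 2, 0, 1], [3, 4, 2, 3, 7, 8, 3, 4, 2, 3, 7, 5, 4, 3, 2, 1, 2, 3, 7, 8, 4, 3, 7, 5, 4, 3, 2, 3, 7, 4, 3]⟩,
    ⟨313, [8, 7, 2, 3, 4, 1, 2, 3, 7, 5, 4, 3, 2, 1], [8, 7, 2, 3, 4, 1, 2, 3, 7, 5, 4, 3, 2, 1, 0, 1, 2, 3, 4, 5, 7, 3, 2, 1, 4, 3, 2, 7, 8]⟩,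
    ⟨648, [7, 5, 3, 4, 2, 3, 7, 8, 2, 3, 4, 1, 2, 3, 7, 6, 5, 4, 3, 2, 1], [7, 5, 3, 4, 2, 3, 7, 8, 2, 3, 4, 1, 2, 3, 7, 6, 5, 4, 3, 2, 1, 0, 1, 2, 3, 4, 5, 6, 7, 3, 2, 1, 4, 3, 2, 8, 7, 3, 2, 4, 3, 5, 7]⟩,
    ⟨673, [2, 3, 4, 1, 2, 3, 7, 8, 7, 4, 5, 3, 4, 2, 3, 7, 6, 5, 4, 3, 2, 1], [2, 3, 4, 1, 2, 3, 7, 8, 7, 4, 5, 3, 4, 2, 3, 7, 6, 5, 4, 3, 2, 1, 0, 1, 2, 3, 4, 5, 6, 7, 3, 2, 4, 3, 5, 4, 7, 8, 7, 3, 2, 1, 4, 3, 2]⟩,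
    ⟨938, [7, 3, 4, 0, 1, 2, 3, 7, 8, 3, 4, 1, 2, 3, 7, 6, 5, 4, 3, 2, 1], [7, 3, 4, 0, 1, 2, 3, 7, 8, 3, 4, 1, 2, 3, 7, 6, 5, 4, 3, 2, 1, 0, 1, 2, 3, 4, 5, 6, 7, 3, 2, 1, 4, 3, 8, 7, 3, 2, 1, 0, 4, 3, 7]⟩,
    ⟨1015, [3, 7, 4, 5, 3, 4, 1, 2, 3, 7, 8, 5, 3, 4, 1, 2, 3, 7, 6, 5, 4, 3, 2, 1], [3, 7, 4, 5, 3, 4, 1, 2, 3, 7, 8, 5, 3, 4, 1, 2, 3, 7, 6, 5, 4, 3, 2, 1, 0, 1, 2, 3, 4, 5, 6, 7, 3, 2, 1, 4, 3, 5, 8, 7, 3, 2, 1, 4, 3, 5, 4, 7, 3]⟩,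
    ⟨1384, [7, 4, 5, 3, 4, 2, 3, 7, 8, 2, 3, 4, 1, 2, 3, 7, 6, 5, 4, 3, 2, 1], [7, 4, 5, 3, 4, 2, 3, 7, 8, 2, 3, 4, 1, 2, 3, 7, 6, 5, 4, 3, 2, 1, 0, 1, 2, 3, 4, 5, 6, 7, 3, 2, 1, 4, 3, 2, 8, 7, 3, 2, 4, 3, 5, 4, 7]⟩,
    ⟨1409, [7, 3, 4, 0, 1, 2, 3, 7, 8, 2, 3, 4, 1, 2, 3, 7, 6, 5, 4, 3, 2, 1], [7, 3, 4, 0, 1, 2, 3, 7, 8, 2, 3, 4, 1, 2, 3, 7, 6, 5, 4, 3, 2, 1, 0, 1, 2, 3, 4, 5, 6, 7, 3, 2, 1, 4, 3, 2, 8, 7, 3, 2, 1, 0, 4, 3, 7]⟩,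
    ⟨1881, [3, 7, 4, 5, 3, 4, 1, 2, 3, 7, 8, 5, 4, 1, 2, 3, 7, 6, 5, 4, 3, 2, 1], [3, 7, 4, 5, 3, 4, 1, 2, 3, 7, 8, 5, 4, 1, 2, 3, 7, 6, 5, 4, 3, 2, 1, 0, 1, 2, 3, 4, 5, 6, 7, 3, 2, 1, 4, 5, 8, 7, 3, 2, 1, 4, 3, 5, 4, 7, 3]⟩,
    ⟨2378, [8, 4, 1, 2, 3, 7, 4, 5, 2, 3, 4, 1, 2, 3, 7, 8, 5, 4, 1, 2, 3, 7, 6, 5, 4, 3, 2, 1], [8, 4, 1, 2, 3, 7, 4, 5, 2, 3, 4, 1, 2, 3, 7, 8, 5, 4, 1, 2, 3, 7, 6, 5, 4, 3, 2, 1, 0, 1, 2, 3, 4, 5, 6, 7, 3, 2, 1, 4, 5, 8, 7, 3, 2, 1, 4, 3, 2, 5, 4, 7, 3, 2, 1, 4, 8]⟩,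
    ⟨2613, [6, 5, 3, 4, 1, 2, 3, 7, 8, 5, 4, 2, 3, 7, 6, 5, 4, 3, 2, 0, 1], [6, 5, 3, 4, 1, 2, 3, 7, 8, 5, 4, 2, 3, 7, 6, 5, 4, 3, 2, 0, 1, 0, 1, 0, 2, 3, 4, 5, 6, 7, 3, 2, 4, 5, 8, 7, 3, 2, 1, 4, 3, 5, 6]⟩,
    ⟨2874, [8, 2, 3, 7, 6, 4, 5, 3, 4, 1, 2, 3, 7, 8, 4, 5, 3, 4, 1, 2, 3, 7, 6, 5, 4, 3, 2, 1], [8, 2, 3, 7, 6, 4, 5, 3, 4, 1, 2, 3, 7, 8, 4, 5, 3, 4, 1, 2, 3, 7, 6, 5, 4, 3, 2, 1, 0, 1, 2, 3, 4, 5, 6, 7, 3, 2, 1, 4, 3, 5, 4, 8, 7, 3, 2, 1, 4, 3, 5, 4, 6, 7, 3, 2, 8]⟩,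
    ⟨3003, [8, 1, 2, 3, 7, 4, 5, 2, 3, 4, 1, 2, 3, 7, 8, 5, 4, 1, 2, 3, 7, 6, 5, 4, 3, 2, 1], [8, 1, 2, 3, 7, 4, 5, 2, 3, 4, 1, 2, 3, 7, 8, 5, 4, 1, 2, 3, 7, 6, 5, 4, 3, 2, 1, 0, 1, 2, 3, 4, 5, 6, 7, 3, 2, 1, 4, 5, 8, 7, 3, 2, 1, 4, 3, 2, 5, 4, 7, 3, 2, 1, 8]⟩]⟩

/-- A generator point. -/
def dv5 : Dv := ⟨5, [], [], [⟨172, [1, 2, 3, 7, 8, 7, 3, 4, 2, 3, 7, 5, 4, 3, 2, 1], [1, 2, 3, 7, 8, 7, 3, 4, 2, 3, 7, 5, 4, 3, 2, 1, 0, 1, 2, 3, 4, 5, 7, 3, 2, 4, 3, 7, 8, 7, 3, 2, 1]⟩,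
    ⟨215, [4, 5, 3, 4, 2, 3, 1, 2, 0, 1], [5]⟩,
    ⟨313, [8, 7, 2, 3, 4, 1, 2, 3, 7, 5, 4, 3, 2, 1], [8, 7, 2, 3, 4, 1, 2, 3, 7, 5, 4, 3, 2, 1, 0, 1, 2, 3, 4, 5, 7, 3, 2, 1, 4, 3, 2, 7, 8]⟩,
    ⟨745, [7, 4, 5, 3, 4, 2, 3, 7, 8, 3, 4, 1, 2, 3, 7, 6, 5, 4, 3, 2, 1], [7, 4, 5, 3, 4, 2, 3, 7, 8, 3, 4, 1, 2, 3, 7, 6, 5, 4, 3, 2, 1, 0, 1, 2, 3, 4, 5, 6, 7, 3, 2, 1, 4, 3, 8, 7, 3, 2, 4, 3, 5, 4, 7]⟩,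
    ⟨826, [3, 7, 4, 5, 3, 4, 1, 2, 3, 7, 8, 5, 2, 3, 4, 1, 2, 3, 7, 6, 5, 4, 3, 2, 1], [3, 7, 4, 5, 3, 4, 1, 2, 3, 7, 8, 5, 2, 3, 4, 1, 2, 3, 7, 6, 5, 4, 3, 2, 1, 0, 1, 2, 3, 4, 5, 6, 7, 3, 2, 1, 4, 3, 2, 5, 8, 7, 3, 2, 1, 4, 3, 5, 4, 7, 3]⟩,
    ⟨938, [7, 3, 4, 0, 1, 2, 3, 7, 8, 3, 4, 1, 2, 3, 7, 6, 5, 4, 3, 2, 1], [7, 3, 4, 0, 1, 2, 3, 7, 8, 3, 4, 1, 2, 3, 7, 6, 5, 4, 3, 2, 1, 0, 1, 2, 3, 4, 5, 6, 7, 3, 2, 1, 4, 3, 8, 7, 3, 2, 1, 0, 4, 3, 7]⟩,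
    ⟨1015, [3, 7, 4, 5, 3, 4, 1, 2, 3, 7, 8, 5, 3, 4, 1, 2, 3, 7, 6, 5, 4, 3, 2, 1], [3, 7, 4, 5, 3, 4, 1, 2, 3, 7, 8, 5, 3, 4, 1, 2, 3, 7, 6, 5, 4, 3, 2, 1, 0, 1, 2, 3, 4, 5, 6, 7, 3, 2, 1, 4, 3, 5, 8, 7, 3, 2, 1, 4, 3, 5, 4, 7, 3]⟩,
    ⟨1172, [6, 5, 3, 4, 1, 2, 3, 7, 8, 5, 4, 2, 3, 7, 6, 5, 4, 3, 2, 1], [6, 5, 3, 4, 1, 2, 3, 7, 8, 5, 4, 2, 3, 7, 6, 5, 4, 3, 2, 1, 0, 1, 2, 3, 4, 5, 6, 7, 3, 2, 4, 5, 8, 7, 3, 2, 1, 4, 3, 5, 6]⟩,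
    ⟨1384, [7, 4, 5, 3, 4, 2, 3, 7, 8, 2, 3, 4, 1, 2, 3, 7, 6, 5, 4, 3, 2, 1], [7, 4, 5, 3, 4, 2, 3, 7, 8, 2, 3, 4, 1, 2, 3, 7, 6, 5, 4, 3, 2, 1, 0, 1, 2, 3, 4, 5, 6, 7, 3, 2, 1, 4, 3, 2, 8, 7, 3, 2, 4, 3, 5, 4, 7]⟩,
    ⟨1512, [6, 5, 2, 3, 4, 1, 2, 3, 7, 8, 4, 5, 3, 4, 2, 3, 7, 6, 5, 4, 3, 2, 1], [6, 5, 2, 3, 4, 1, 2, 3, 7, 8, 4, 5, 3, 4, 2, 3, 7, 6, 5, 4, 3, 2, 1, 0, 1, 2, 3, 4, 5, 6, 7, 3, 2, 4, 3, 5, 4, 8, 7, 3, 2, 1, 4, 3, 2, 5, 6]⟩,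
    ⟨1519, [7, 5, 3, 4, 0, 1, 2, 3, 7, 8, 3, 4, 1, 2, 3, 7, 6, 5, 4, 3, 2, 1], [7, 5, 3, 4, 0, 1, 2, 3, 7, 8, 3, 4, 1, 2, 3, 7, 6, 5, 4, 3, 2, 1, 0, 1, 2, 3, 4, 5, 6, 7, 3, 2, 1, 4, 3, 8, 7, 3, 2, 1, 0, 4, 3, 5, 7]⟩,
    ⟨2874, [8, 2, 3, 7, 6, 4, 5, 3, 4, 1, 2, 3, 7, 8, 4, 5, 3, 4, 1, 2, 3, 7, 6, 5, 4, 3, 2, 1], [8, 2, 3, 7, 6, 4, 5, 3, 4, 1, 2, 3, 7, 8, 4, 5, 3, 4, 1, 2, 3, 7, 6, 5, 4, 3, 2, 1, 0, 1, 2, 3, 4, 5, 6, 7, 3, 2, 1, 4, 3, 5, 4, 8, 7, 3, 2, 1, 4, 3, 5, 4, 6, 7, 3, 2, 8]⟩,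
    ⟨3003, [8, 1, 2, 3, 7, 4, 5, 2, 3, 4, 1, 2, 3, 7, 8, 5, 4, 1, 2, 3, 7, 6, 5, 4, 3, 2, 1], [8, 1, 2, 3, 7, 4, 5, 2, 3, 4, 1, 2, 3, 7, 8, 5, 4, 1, 2, 3, 7, 6, 5, 4, 3, 2, 1, 0, 1, 2, 3, 4, 5, 6, 7, 3, 2, 1, 4, 5, 8, 7, 3, 2, 1, 4, 3, 2, 5, 4, 7, 3, 2, 1, 8]⟩,
    ⟨3242, [8, 1, 2, 3, 7, 4, 5, 3, 4, 1, 2, 3, 7, 8, 7, 4, 5, 3, 4, 1, 2, 3, 7, 6, 5, 4, 3, 2, 1], [8, 1, 2, 3, 7, 4, 5, 3, 4, 1, 2, 3, 7, 8, 7, 4, 5, 3, 4, 1, 2, 3, 7, 6, 5, 4, 3, 2, 1, 0, 1, 2, 3, 4, 5, 6, 7, 3, 2, 1, 4, 3, 5, 4, 7, 8, 7, 3, 2, 1, 4, 3, 5, 4, 7, 3, 2, 1, 8]⟩]⟩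

/-- A generator point. -/
def dv6 : Dv := ⟨6, [], [], [⟨256, [5, 6, 4, 5, 3, 4, 2, 3, 1, 2, 0, 1], [6]⟩,
    ⟨298, [7, 3, 4, 0, 1, 2, 3, 7, 8, 3, 4, 1, 2, 3, 7, 5, 4, 3, 2, 1], [7, 3, 4, 0, 1, 2, 3, 7, 8, 3, 4, 1, 2, 3, 7, 5, 4, 3, 2, 1, 0, 1, 2, 3, 4, 5, 7, 3, 2, 1, 4, 3, 8, 7, 3, 2, 1, 0, 4, 3, 7]⟩,
    ⟨572, [3, 7, 6, 4, 5, 2, 3, 4, 1, 2, 3, 7, 8, 7, 5, 3, 4, 1, 2, 3, 7, 6, 5, 4, 3, 2, 1], [3, 7, 6, 4, 5, 2, 3, 4, 1, 2, 3, 7, 8, 7, 5, 3, 4, 1, 2, 3, 7, 6, 5, 4, 3, 2, 1, 0, 1, 2, 3, 4, 5, 6, 7, 3, 2, 1, 4, 3, 5, 7, 8, 7, 3, 2, 1, 4, 3, 2, 5, 4, 6, 7, 3]⟩,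
    ⟨938, [7, 3, 4, 0, 1, 2, 3, 7, 8, 3, 4, 1, 2, 3, 7, 6, 5, 4, 3, 2, 1], [7, 3, 4, 0, 1, 2, 3, 7, 8, 3, 4, 1, 2, 3, 7, 6, 5, 4, 3, 2, 1, 0, 1, 2, 3, 4, 5, 6, 7, 3, 2, 1, 4, 3, 8, 7, 3, 2, 1, 0, 4, 3, 7]⟩,
    ⟨1206, [3, 4, 2, 3, 7, 8, 3, 7, 5, 2, 3, 4, 1, 2, 3, 7, 6, 5, 4, 3, 2, 1], [3, 4, 2, 3, 7, 8, 3, 7, 5, 2, 3, 4, 1, 2, 3, 7, 6, 5, 4, 3, 2, 1, 0, 1, 2, 3, 4, 5, 6, 7, 3, 2, 1, 4, 3, 2, 5, 7, 3, 8, 7, 3, 2, 4, 3]⟩,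
    ⟨1384, [7, 4, 5, 3, 4, 2, 3, 7, 8, 2, 3, 4, 1, 2, 3, 7, 6, 5, 4, 3, 2, 1], [7, 4, 5, 3, 4, 2, 3, 7, 8, 2, 3, 4, 1, 2, 3, 7, 6, 5, 4, 3, 2, 1, 0, 1, 2, 3, 4, 5, 6, 7, 3, 2, 1, 4, 3, 2, 8, 7, 3, 2, 4, 3, 5, 4, 7]⟩,
    ⟨1458, [7, 3, 4, 1, 2, 3, 7, 8, 7, 4, 5, 2, 3, 4, 1, 2, 3, 7, 6, 5, 4, 3, 2, 1], [7, 3, 4, 1, 2, 3, 7, 8, 7, 4, 5, 2, 3, 4, 1, 2, 3, 7, 6, 5, 4, 3, 2, 1, 0, 1, 2, 3, 4, 5, 6, 7, 3, 2, 1, 4, 3, 2, 5, 4, 7, 8, 7, 3, 2, 1, 4, 3, 7]⟩,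
    ⟨1983, [7, 6, 4, 5, 3, 4, 2, 3, 7, 8, 2, 3, 4, 1, 2, 3, 7, 6, 5, 4, 3, 2, 1], [7, 6, 4, 5, 3, 4, 2, 3, 7, 8, 2, 3, 4, 1, 2, 3, 7, 6, 5, 4, 3, 2, 1, 0, 1, 2, 3, 4, 5, 6, 7, 3, 2, 1, 4, 3, 2, 8, 7, 3, 2, 4, 3, 5, 4, 6, 7]⟩,
    ⟨2538, [7, 8, 5, 4, 3, 7, 4, 5, 2, 3, 4, 1, 2, 3, 7, 8, 5, 4, 1, 2, 3, 7, 6, 5, 4, 3, 2, 1], [7, 8, 5, 4, 3, 7, 4, 5, 2, 3, 4, 1, 2, 3, 7, 8, 5, 4, 1, 2, 3, 7, 6, 5, 4, 3, 2, 1, 0, 1, 2, 3, 4, 5, 6, 7, 3, 2, 1, 4, 5, 8, 7, 3, 2, 1, 4, 3, 2, 5, 4, 7, 3, 4, 5, 8, 7]⟩,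
    ⟨2580, [4, 3, 7, 8, 7, 4, 5, 3, 4, 2, 3, 7, 6, 5, 4, 3, 2, 0, 1], [4, 3, 7, 8, 7, 4, 5, 3, 4, 2, 3, 7, 6, 5, 4, 3, 2, 1, 2, 3, 7, 4, 3, 2, 8, 5, 4, 3, 7, 6, 5, 4, 3, 4, 8]⟩,
    ⟨2680, [4, 2, 3, 7, 8, 4, 5, 3, 4, 2, 3, 7, 6, 5, 4, 3, 2, 0, 1], [4, 2, 3, 7, 8, 4, 5, 3, 4, 2, 3, 7, 6, 5, 4, 3, 2, 1, 2, 3, 7, 8, 4, 5, 3, 4, 2, 3, 7, 6, 5, 4, 3, 2, 4]⟩,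
    ⟨2809, [3, 7, 4, 5, 2, 3, 4, 1, 2, 3, 7, 8, 7, 5, 3, 4, 1, 2, 3, 7, 6, 5, 4, 3, 2, 1], [3, 7, 4, 5, 2, 3, 4, 1, 2, 3, 7, 8, 7, 5, 3, 4, 1, 2, 3, 7, 6, 5, 4, 3, 2, 1, 0, 1, 2, 3, 4, 5, 6, 7, 3, 2, 1, 4, 3, 5, 7, 8, 7, 3, 2, 1, 4, 3, 2, 5, 4, 7, 3]⟩,
    ⟨2964, [8, 7, 2, 3, 4, 1, 2, 3, 7, 8, 7, 4, 5, 2, 3, 4, 1, 2, 3, 7, 6, 5, 4, 3, 2, 1], [8, 7, 2, 3, 4, 1, 2, 3, 7, 8, 7, 4, 5, 2, 3, 4, 1, 2, 3, 7, 6, 5, 4, 3, 2, 1, 0, 1, 2, 3, 4, 5, 6, 7, 3, 2, 1, 4, 3, 2, 5, 4, 7, 8, 7, 3, 2, 1, 4, 3, 2, 7, 8]⟩,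
    ⟨3027, [7, 8, 0, 1, 2, 3, 7, 4, 5, 3, 4, 2, 3, 7, 8, 4, 5, 3, 4, 1, 2, 3, 7, 6, 5, 4, 3, 2, 1], [7, 8, 0, 1, 2, 3, 7, 4, 5, 3, 4, 2, 3, 7, 8, 4, 5, 3, 4, 1, 2, 3, 7, 6, 5, 4, 3, 2, 1, 0, 1, 2, 3, 4, 5, 6, 7, 3, 2, 1, 4, 3, 5, 4, 8, 7, 3, 2, 4, 3, 5, 4, 7, 3, 2, 1, 0, 8, 7]⟩]⟩

/-- A generator point. -/
def dv7 : Dv := ⟨7, [], [], [⟨243, [3, 7, 2, 3, 1, 2, 0, 1], [7]⟩,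
    ⟨250, [4, 3, 7, 6, 5, 4, 3, 2, 0, 1], [4, 3, 7, 6, 5, 4, 3, 2, 1, 2, 3, 7, 4, 3, 5, 6, 4]⟩,
    ⟨320, [8, 7, 6, 5, 4, 3, 2, 0, 1], [8, 7, 6, 5, 4, 3, 2, 1, 2, 3, 7, 4, 5, 6, 8]⟩,
    ⟨584, [4, 1, 2, 3, 7, 8, 4, 5, 3, 4, 1, 2, 3, 7, 6, 5, 4, 3, 2, 1], [4, 1, 2, 3, 7, 8, 4, 5, 3, 4, 1, 2, 3, 7, 6, 5, 4, 3, 2, 1, 0, 1, 2, 3, 4, 5, 6, 7, 3, 2, 1, 4, 3, 5, 4, 8, 7, 3, 2, 1, 4]⟩,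
    ⟨600, [6, 5, 4, 2, 3, 7, 8, 4, 1, 2, 3, 7, 5, 4, 3, 2, 1], [6, 5, 4, 2, 3, 7, 8, 4, 1, 2, 3, 7, 5, 4, 3, 2, 1, 0, 1, 2, 3, 4, 5, 7, 3, 2, 1, 4, 8, 7, 3, 2, 4, 5, 6]⟩,
    ⟨767, [3, 7, 4, 5, 3, 4, 1, 2, 3, 7, 8, 7, 4, 5, 3, 4, 1, 2, 3, 7, 6, 5, 4, 3, 2, 1], [3, 7, 4, 5, 3, 4, 1, 2, 3, 7, 8, 7, 4, 5, 3, 4, 1, 2, 3, 7, 6, 5, 4, 3, 2, 1, 0, 1, 2, 3, 4, 5, 6, 7, 3, 2, 1, 4, 3, 5, 4, 7, 8, 7, 3, 2, 1, 4, 3, 5, 4, 7, 3]⟩,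
    ⟨938, [7, 3, 4, 0, 1, 2, 3, 7, 8, 3, 4, 1, 2, 3, 7, 6, 5, 4, 3, 2, 1], [7, 3, 4, 0, 1, 2, 3, 7, 8, 3, 4, 1, 2, 3, 7, 6, 5, 4, 3, 2, 1, 0, 1, 2, 3, 4, 5, 6, 7, 3, 2, 1, 4, 3, 8, 7, 3, 2, 1, 0, 4, 3, 7]⟩,
    ⟨976, [3, 4, 0, 1, 2, 3, 7, 8, 3, 4, 1, 2, 3, 7, 6, 5, 4, 3, 2, 1], [3, 4, 0, 1, 2, 3, 7, 8, 3, 4, 1, 2, 3, 7, 6, 5, 4, 3, 2, 1, 0, 1, 2, 3, 4, 5, 6, 7, 3, 2, 1, 4, 3, 8, 7, 3, 2, 1, 0, 4, 3]⟩,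
    ⟨987, [6, 5, 4, 3, 7, 8, 2, 3, 4, 1, 2, 3, 7, 6, 5, 4, 3, 2, 1], [6, 5, 4, 3, 7, 8, 2, 3, 4, 1, 2, 3, 7, 6, 5, 4, 3, 2, 1, 0, 1, 2, 3, 4, 5, 6, 7, 3, 2, 1, 4, 3, 2, 8, 7, 3, 4, 5, 6]⟩,
    ⟨1043, [4, 5, 3, 4, 2, 3, 7, 8, 2, 3, 4, 1, 2, 3, 7, 6, 5, 4, 3, 2, 1], [4, 5, 3, 4, 2, 3, 7, 8, 2, 3, 4, 1, 2, 3, 7, 6, 5, 4, 3, 2, 1, 0, 1, 2, 3, 4, 5, 6, 7, 3, 2, 1, 4, 3, 2, 8, 7, 3, 2, 4, 3, 5, 4]⟩,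
    ⟨1352, [6, 5, 4, 0, 1, 2, 3, 7, 8, 5, 4, 1, 2, 3, 7, 6, 5, 4, 3, 2, 1], [6, 5, 4, 0, 1, 2, 3, 7, 8, 5, 4, 1, 2, 3, 7, 6, 5, 4, 3, 2, 1, 0, 1, 2, 3, 4, 5, 6, 7, 3, 2, 1, 4, 5, 8, 7, 3, 2, 1, 0, 4, 5, 6]⟩,
    ⟨1384, [7, 4, 5, 3, 4, 2, 3, 7, 8, 2, 3, 4, 1, 2, 3, 7, 6, 5, 4, 3, 2, 1], [7, 4, 5, 3, 4, 2, 3, 7, 8, 2, 3, 4, 1, 2, 3, 7, 6, 5, 4, 3, 2, 1, 0, 1, 2, 3, 4, 5, 6, 7, 3, 2, 1, 4, 3, 2, 8, 7, 3, 2, 4, 3, 5, 4, 7]⟩,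
    ⟨2025, [6, 5, 4, 2, 3, 7, 8, 3, 4, 1, 2, 3, 7, 5, 4, 3, 2, 1], [6, 5, 4, 2, 3, 7, 8, 3, 4, 1, 2, 3, 7, 5, 4, 3, 2, 1, 0, 1, 2, 3, 4, 5, 7, 3, 2, 1, 4, 3, 8, 7, 3, 2, 4, 5, 6]⟩,
    ⟨2222, [6, 5, 4, 0, 1, 2, 3, 7, 8, 5, 3, 4, 1, 2, 3, 7, 6, 5, 4, 3, 2, 1], [6, 5, 4, 0, 1, 2, 3, 7, 8, 5, 3, 4, 1, 2, 3, 7, 6, 5, 4, 3, 2, 1, 0, 1, 2, 3, 4, 5, 6, 7, 3, 2, 1, 4, 3, 5, 8, 7, 3, 2, 1, 0, 4, 5, 6]⟩]⟩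

/-- A generator point. -/
def dv8 : Dv := ⟨6, [5, 3, 4, 0, 1, 2, 3, 7, 8, 5, 4, 0, 1, 2, 3, 7, 6, 5, 4, 3, 2, 1, 0, 6, 5, 4, 2, 3, 7, 8, 3, 7, 4, 5, 3, 4, 2, 3, 7, 6, 5, 4, 3, 2, 1, 5, 6, 4, 5, 3, 4, 2, 3, 7, 8, 3, 4, 2, 3, 7, 5, 4, 3, 2, 3, 7, 4, 3, 8, 7, 5, 6, 5, 4, 5, 8], [4, 2, 4, 0], [⟨1965, [7, 8, 3, 7, 2, 3, 1, 2, 0, 1], [8]⟩,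
    ⟨619, [7, 2, 3, 4, 1, 2, 3, 7, 8, 2, 3, 4, 1, 2, 3, 7, 6, 5, 4, 3, 2, 1], [7, 2, 3, 4, 1, 2, 3, 7, 8, 2, 3, 4, 1, 2, 3, 7, 6, 5, 4, 3, 2, 1, 0, 1, 2, 3, 4, 5, 6, 7, 3, 2, 1, 4, 3, 2, 8, 7, 3, 2, 1, 4, 3, 2, 7]⟩,
    ⟨458, [3, 7, 5, 6, 4, 5, 3, 4, 2, 3, 7, 8, 4, 5, 2, 3, 4, 1, 2, 3, 7, 6, 5, 4, 3, 2, 1], [3, 7, 5, 6, 4, 5, 3, 4, 2, 3, 7, 8, 4, 5, 2, 3, 4, 1, 2, 3, 7, 6, 5, 4, 3, 2, 1, 0, 1, 2, 3, 4, 5, 6, 7, 3, 2, 1, 4, 3, 2, 5, 4, 8, 7, 3, 2, 4, 3, 5, 4, 6, 5, 7, 3]⟩,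
    ⟨938, [7, 3, 4, 0, 1, 2, 3, 7, 8, 3, 4, 1, 2, 3, 7, 6, 5, 4, 3, 2, 1], [7, 3, 4, 0, 1, 2, 3, 7, 8, 3, 4, 1, 2, 3, 7, 6, 5, 4, 3, 2, 1, 0, 1, 2, 3, 4, 5, 6, 7, 3, 2, 1, 4, 3, 8, 7, 3, 2, 1, 0, 4, 3, 7]⟩,
    ⟨1679, [4, 1, 2, 3, 7, 8, 3, 4, 5, 2, 3, 4, 1, 2, 3, 7, 6, 5, 4, 3, 2, 1], [4, 1, 2, 3, 7, 8, 3, 4, 5, 2, 3, 4, 1, 2, 3, 7, 6, 5, 4, 3, 2, 1, 0, 1, 2, 3, 4, 5, 6, 7, 3, 2, 1, 4, 3, 2, 5, 4, 3, 8, 7, 3, 2, 1, 4]⟩,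
    ⟨1384, [7, 4, 5, 3, 4, 2, 3, 7, 8, 2, 3, 4, 1, 2, 3, 7, 6, 5, 4, 3, 2, 1], [7, 4, 5, 3, 4, 2, 3, 7, 8, 2, 3, 4, 1, 2, 3, 7, 6, 5, 4, 3, 2, 1, 0, 1, 2, 3, 4, 5, 6, 7, 3, 2, 1, 4, 3, 2, 8, 7, 3, 2, 4, 3, 5, 4, 7]⟩,
    ⟨724, [5, 2, 3, 4, 0, 1, 2, 3, 7, 8, 5, 4, 1, 2, 3, 7, 6, 5, 4, 3, 2, 1], [5, 2, 3, 4, 0, 1, 2, 3, 7, 8, 5, 4, 1, 2, 3, 7, 6, 5, 4, 3, 2, 1, 0, 1, 2, 3, 4, 5, 6, 7, 3, 2, 1, 4, 5, 8, 7, 3, 2, 1, 0, 4, 3, 2, 5]⟩,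
    ⟨342, [5, 6, 4, 5, 3, 4, 2, 3, 7, 8, 2, 3, 4, 1, 2, 3, 7, 6, 5, 4, 3, 2, 1], [5, 6, 4, 5, 3, 4, 2, 3, 7, 8, 2, 3, 4, 1, 2, 3, 7, 6, 5, 4, 3, 2, 1, 0, 1, 2, 3, 4, 5, 6, 7, 3, 2, 1, 4, 3, 2, 8, 7, 3, 2, 4, 3, 5, 4, 6, 5]⟩,
    ⟨1025, [3, 7, 2, 3, 4, 1, 2, 3, 7, 8, 3, 4, 5, 2, 3, 4, 1, 2, 3, 7, 6, 5, 4, 3, 2, 1], [3, 7, 2, 3, 4, 1, 2, 3, 7, 8, 3, 4, 5, 2, 3, 4, 1, 2, 3, 7, 6, 5, 4, 3, 2, 1, 0, 1, 2, 3, 4, 5, 6, 7, 3, 2, 1, 4, 3, 2, 5, 4, 3, 8, 7, 3, 2, 1, 4, 3, 2, 7, 3]⟩,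
    ⟨561, [5, 3, 4, 2, 3, 7, 8, 1, 2, 3, 7, 6, 5, 4, 3, 2, 1], [5, 3, 4, 2, 3, 7, 8, 1, 2, 3, 7, 6, 5, 4, 3, 2, 1, 0, 1, 2, 3, 4, 5, 6, 7, 3, 2, 1, 8, 7, 3, 2, 4, 3, 5]⟩,
    ⟨536, [6, 5, 4, 3, 7, 8, 3, 7, 4, 5, 3, 4, 2, 3, 7, 6, 5, 4, 3, 2, 1], [6, 5, 4, 3, 7, 8, 3, 7, 4, 5, 3, 4, 2, 3, 7, 6, 5, 4, 3, 2, 1, 0, 1, 2, 3, 4, 5, 6, 7, 3, 2, 4, 3, 5, 4, 7, 3, 8, 7, 3, 4, 5, 6]⟩,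
    ⟨2897, [8, 3, 7, 5, 6, 4, 5, 3, 4, 2, 3, 7, 8, 4, 5, 2, 3, 4, 1, 2, 3, 7, 6, 5, 4, 3, 2, 1], [8, 3, 7, 5, 6, 4, 5, 3, 4, 2, 3, 7, 8, 4, 5, 2, 3, 4, 1, 2, 3, 7, 6, 5, 4, 3, 2, 1, 0, 1, 2, 3, 4, 5, 6, 7, 3, 2, 1, 4, 3, 2, 5, 4, 8, 7, 3, 2, 4, 3, 5, 4, 6, 5, 7, 3, 8]⟩,
    ⟨335, [6, 5, 4, 3, 7, 8, 4, 2, 3, 7, 6, 5, 4, 3, 2, 1], [6, 5, 4, 3, 7, 8, 4, 2, 3, 7, 6, 5, 4, 3, 2, 1, 0, 1, 2, 3, 4, 5, 6, 7, 3, 2, 4, 8, 7, 3, 4, 5, 6]⟩,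
    ⟨3157, [8, 3, 7, 2, 3, 4, 1, 2, 3, 7, 8, 3, 4, 5, 2, 3, 4, 1, 2, 3, 7, 6, 5, 4, 3, 2, 1], [8, 3, 7, 2, 3, 4, 1, 2, 3, 7, 8, 3, 4, 5, 2, 3, 4, 1, 2, 3, 7, 6, 5, 4, 3, 2, 1, 0, 1, 2, 3, 4, 5, 6, 7, 3, 2, 1, 4, 3, 2, 5, 4, 3, 8, 7, 3, 2, 1, 4, 3, 2, 7, 3, 8]⟩]⟩

/-- The generator points. -/
def dvs : List Dv := [dv0, dv1, dv2, dv3, dv4, dv5, dv6, dv7, dv8]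

/-- The elements commuting with the squares. -/
def zs : List (List ℕ × List ℕ) := [([], []),
    ([7, 4, 5, 3, 4, 2, 3, 7, 8, 2, 3, 4, 1, 2, 3, 7, 6, 5, 4, 3, 2, 1, 0, 1, 2, 3, 7, 4, 3, 2, 1, 8, 7, 5, 4, 3, 2, 7, 4, 3, 7, 6, 5, 4, 5], [7, 4, 5, 3, 4, 2, 3, 7, 8, 2, 3, 4, 1, 2, 3, 7, 6, 5, 4, 3, 2, 1]),
    ([1, 2, 3, 7, 8, 5, 3, 4, 2, 3, 7, 6, 5, 4, 3, 2, 1, 0, 5, 4, 3, 7, 4, 5, 2, 3, 4, 1, 2, 3, 7, 8, 7, 3, 4, 2, 3, 7, 6, 5, 4, 3, 2, 1, 7, 3, 4, 2, 3, 7, 5, 4, 3, 2, 8, 7, 5, 4, 3, 7, 4, 5, 6, 5], [3, 5]),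
    ([7, 5, 6, 4, 5, 1, 2, 3, 4, 0, 1, 2, 3, 7, 8, 4, 5, 3, 4, 1, 2, 3, 7, 6, 5, 4, 3, 2, 1, 0, 6, 5, 3, 4, 1, 2, 3, 7, 8, 7, 3, 4, 2, 3, 7, 5, 4, 3, 2, 1, 5, 4, 2, 3, 7, 6, 5, 4, 3, 2, 7, 8, 3, 7, 6, 5, 4, 3, 8, 7, 4], [4, 8]),
    ([8, 7, 2, 3, 4, 1, 2, 3, 7, 8, 2, 3, 4, 1, 2, 3, 7, 6, 5, 4, 3, 2, 1, 0, 1, 2, 3, 7, 8, 4, 3, 7, 5, 4, 3, 2, 1, 3, 7, 4, 3, 2, 3, 7, 6, 4, 8], [7, 3, 4, 0, 1, 2, 3, 7, 8, 3, 4, 1, 2, 3, 7, 6, 5, 4, 3, 2, 1]),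
    ([8, 7, 3, 4, 1, 2, 3, 7, 8, 7, 5, 3, 4, 2, 3, 7, 6, 5, 4, 3, 2, 1, 0, 8, 3, 7, 5, 2, 3, 4, 1, 2, 3, 7, 8, 2, 3, 4, 1, 2, 3, 7, 6, 5, 4, 3, 2, 1, 5, 4, 3, 7, 6, 5, 4, 3, 8, 7, 4, 8], [1, 7]),
    ([7, 8, 0, 1, 2, 3, 7, 6, 4, 5, 2, 3, 4, 0, 1, 2, 3, 7, 8, 4, 5, 2, 3, 4, 1, 2, 3, 7, 6, 5, 4, 3, 2, 1, 0, 5, 4, 3, 7, 5, 2, 3, 4, 1, 2, 3, 7, 8, 7, 4, 5, 2, 3, 4, 1, 2, 3, 7, 6, 5, 4, 3, 2, 1, 5, 4, 2, 3, 7, 8, 3, 7, 4, 5, 3, 4, 2, 3, 7, 6, 5, 4, 3, 2, 4, 3, 7, 8, 5, 4, 3, 7, 6, 5, 4, 3, 7, 4, 5, 6, 5, 4], [5, 8]),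
    ([3, 7, 4, 5, 3, 4, 1, 2, 3, 7, 8, 4, 5, 2, 3, 4, 1, 2, 3, 7, 6, 5, 4, 3, 2, 1, 0, 4, 3, 7, 2, 3, 4, 1, 2, 3, 7, 8, 4, 5, 2, 3, 4, 1, 2, 3, 7, 6, 5, 4, 3, 2, 1, 2, 3, 7, 8, 4, 3, 7, 6, 5, 4, 3, 7, 4], [0, 6])]

end Cfsg.Agent.Fus.Fi22Out
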