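import Cfsg.Agent.Lib.Fus.Fi22Out.TreeData
import Cfsg.Agent.Lib.Fus.Fi22Out.ClassData
import Cfsg.Agent.Lib.Spor.Cos.Fi22.ActBData

/-! Checks of tuples. -/

set_option autoImplicit false
set_option maxRecDepth 100000
set_option maxHeartbeats 4000000

open Cfsg.Agent.Spor.Cos Cfsg.Agent.Spor.Cos.Triple Cfsg.Agent.Fus.Transp

namespace Cfsg.Agent.Fus.Fi22Out

open Cfsg.Agent.Spor.Cos.Fi22 (actB)

theorem scan0_b0 : allBlock (chkScan actB qs asg0 1 kids0) 3510 1024 0 = true := by decide +kernel

theorem scan0_b1 : allBlock (chkScan actB qs asg0 1 kids0) 3510 1024 1 = true := by decide +kernel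

theorem scan0_b2 : allBlock (chkScan actB qs asg0 1 kids0) 3510 1024 2 = true := by decide +kernel

theorem scan0_b3 : allBlock (chkScan actB qs asg0 1 kids0) 3510 1024 3 = true := by decide +kernel

theorem scan0 : ∀ i < 3510, (chkScan actB qs asg0 1 kids0) i = true :=
  of_blocks (size := 1024) (b := 4) (by decide) (by decide) fun j hj => by
    interval_cases j
    · exact scan0_b0
    · exact scan0_b1
    · exact scan0_b2
    · exact scan0_b3

theorem scan1_b0 : allBlock (chkScan actB qs asg1 2 kids1) 3510 1024 0 = true := by decide +kernel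

theorem scan1_b1 : allBlock (chkScan actB qs asg1 2 kids1) 3510 1024 1 = true := by decide +kernel

theorem scan1_b2 : allBlock (chkScan actB qs asg1 2 kids1) 3510 1024 2 = true := by decide +kernel

theorem scan1_b3 : allBlock (chkScan actB qs asg1 2 kids1) 3510 1024 3 = true := by decide +kernel

theorem scan1 : ∀ i < 3510, (chkScan actB qs asg1 2 kids1) i = true :=
  of_blocks (size := 1024) (b := 4) (by decide) (by decide) fun j hj => by
    interval_cases j
    · exact scan1_b0
    · exact scan1_b1
    · exact scan1_b2
    · exact scan1_b3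

theorem scan2_b0 : allBlock (chkScan actB qs asg2 3 kids2) 3510 1024 0 = true := by decide +kernel

theorem scan2_b1 : allBlock (chkScan actB qs asg2 3 kids2) 3510 1024 1 = true := by decide +kernel

theorem scan2_b2 : allBlock (chkScan actB qs asg2 3 kids2) 3510 1024 2 = true := by decide +kernel

theorem scan2_b3 : allBlock (chkScan actB qs asg2 3 kids2) 3510 1024 3 = true := by decide +kernel

theorem scan2 : ∀ i < 3510, (chkScan actB qs asg2 3 kids2) i = true :=
  of_blocks (size := 1024) (b := 4) (by decide) (by decide) fun j hj => by
    interval_cases j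
    · exact scan2_b0
    · exact scan2_b1
    · exact scan2_b2
    · exact scan2_b3

theorem scan3_b0 : allBlock (chkScan actB qs asg3 4 kids3) 3510 1024 0 = true := by decide +kernel

theorem scan3_b1 : allBlock (chkScan actB qs asg3 4 kids3) 3510 1024 1 = true := by decide +kernel

theorem scan3_b2 : allBlock (chkScan actB qs asg3 4 kids3) 3510 1024 2 = true := by decide +kernel

theorem scan3_b3 : allBlock (chkScan actB qs asg3 4 kids3) 3510 1024 3 = true := by decide +kernel

theorem scan3 : ∀ i < 3510, (chkScan actB qs asg3 4 kids3) i = true :=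
  of_blocks (size := 1024) (b := 4) (by decide) (by decide) fun j hj => by
    interval_cases j
    · exact scan3_b0
    · exact scan3_b1
    · exact scan3_b2
    · exact scan3_b3

theorem scan4_b0 : allBlock (chkScan actB qs asg4 7 kids4) 3510 1024 0 = true := by decide +kernel

theorem scan4_b1 : allBlock (chkScan actB qs asg4 7 kids4) 3510 1024 1 = true := by decide +kernel

theorem scan4_b2 : allBlock (chkScan actB qs asg4 7 kids4) 3510 1024 2 = true := by decide +kernel

theorem scan4_b3 : allBlock (chkScan actB qs asg4 7 kids4) 3510 1024 3 = true := by decide +kernel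

theorem scan4 : ∀ i < 3510, (chkScan actB qs asg4 7 kids4) i = true :=
  of_blocks (size := 1024) (b := 4) (by decide) (by decide) fun j hj => by
    interval_cases j
    · exact scan4_b0
    · exact scan4_b1
    · exact scan4_b2
    · exact scan4_b3

theorem scan5_b0 : allBlock (chkScan actB qs asg5 5 kids5) 3510 1024 0 = true := by decide +kernel

theorem scan5_b1 : allBlock (chkScan actB qs asg5 5 kids5) 3510 1024 1 = true := by decide +kernel

theorem scan5_b2 : allBlock (chkScan actB qs asg5 5 kids5) 3510 1024 2 = true := by decide +kernel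

theorem scan5_b3 : allBlock (chkScan actB qs asg5 5 kids5) 3510 1024 3 = true := by decide +kernel

theorem scan5 : ∀ i < 3510, (chkScan actB qs asg5 5 kids5) i = true :=
  of_blocks (size := 1024) (b := 4) (by decide) (by decide) fun j hj => by
    interval_cases j
    · exact scan5_b0
    · exact scan5_b1
    · exact scan5_b2
    · exact scan5_b3

theorem scan6_b0 : allBlock (chkScan actB qs asg6 8 kids6) 3510 1024 0 = true := by decide +kernel

theorem scan6_b1 : allBlock (chkScan actB qs asg6 8 kids6) 3510 1024 1 = true := by decide +kernel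

theorem scan6_b2 : allBlock (chkScan actB qs asg6 8 kids6) 3510 1024 2 = true := by decide +kernel

theorem scan6_b3 : allBlock (chkScan actB qs asg6 8 kids6) 3510 1024 3 = true := by decide +kernel

theorem scan6 : ∀ i < 3510, (chkScan actB qs asg6 8 kids6) i = true :=
  of_blocks (size := 1024) (b := 4) (by decide) (by decide) fun j hj => by
    interval_cases j
    · exact scan6_b0
    · exact scan6_b1
    · exact scan6_b2
    · exact scan6_b3


end Cfsg.Agent.Fus.Fi22Out
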