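import Cfsg.Agent.Lib.Fus.Fi22Out.TreeData
import Cfsg.Agent.Lib.Fus.Fi22Out.ClassData
import Cfsg.Agent.Lib.Spor.Cos.Fi22.ActBData

/-! Checks of tuples. -/

set_option autoImplicit false
set_option maxRecDepth 100000
set_option maxHeartbeats 4000000

open Cfsg.Agent.Spor.Cos Cfsg.Agent.Spor.Cos.Triple Cfsg.Agent.Fus.Transp

namespace Cfsg.Agent.Fus.Fi22Out

open Cfsg.Agent.Spor.Cos.Fi22 (actB)

theorem scan16_b0 : allBlock (chkScan actB qs asg16 7 kids16) 3510 1024 0 = true := by decide +kernel

theorem scan16_b1 : allBlock (chkScan actB qs asg16 7 kids16) 3510 1024 1 = true := by decide +kernel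

theorem scan16_b2 : allBlock (chkScan actB qs asg16 7 kids16) 3510 1024 2 = true := by decide +kernel

theorem scan16_b3 : allBlock (chkScan actB qs asg16 7 kids16) 3510 1024 3 = true := by decide +kernel

theorem scan16 : ∀ i < 3510, (chkScan actB qs asg16 7 kids16) i = true :=
  of_blocks (size := 1024) (b := 4) (by decide) (by decide) fun j hj => by
    interval_cases j
    · exact scan16_b0
    · exact scan16_b1
    · exact scan16_b2
    · exact scan16_b3

theorem scan17_b0 : allBlock (chkScan actB qs asg17 5 kids17) 3510 1024 0 = true := by decide +kernel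

theorem scan17_b1 : allBlock (chkScan actB qs asg17 5 kids17) 3510 1024 1 = true := by decide +kernel

theorem scan17_b2 : allBlock (chkScan actB qs asg17 5 kids17) 3510 1024 2 = true := by decide +kernel

theorem scan17_b3 : allBlock (chkScan actB qs asg17 5 kids17) 3510 1024 3 = true := by decide +kernel

theorem scan17 : ∀ i < 3510, (chkScan actB qs asg17 5 kids17) i = true :=
  of_blocks (size := 1024) (b := 4) (by decide) (by decide) fun j hj => by
    interval_cases j
    · exact scan17_b0
    · exact scan17_b1
    · exact scan17_b2
    · exact scan17_b3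

theorem scan18_b0 : allBlock (chkScan actB qs asg18 8 kids18) 3510 1024 0 = true := by decide +kernel

theorem scan18_b1 : allBlock (chkScan actB qs asg18 8 kids18) 3510 1024 1 = true := by decide +kernel

theorem scan18_b2 : allBlock (chkScan actB qs asg18 8 kids18) 3510 1024 2 = true := by decide +kernel

theorem scan18_b3 : allBlock (chkScan actB qs asg18 8 kids18) 3510 1024 3 = true := by decide +kernel

theorem scan18 : ∀ i < 3510, (chkScan actB qs asg18 8 kids18) i = true :=
  of_blocks (size := 1024) (b := 4) (by decide) (by decide) fun j hj => by
    interval_cases j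
    · exact scan18_b0
    · exact scan18_b1
    · exact scan18_b2
    · exact scan18_b3

theorem scan19_b0 : allBlock (chkScan actB qs asg19 6 kids19) 3510 1024 0 = true := by decide +kernel

theorem scan19_b1 : allBlock (chkScan actB qs asg19 6 kids19) 3510 1024 1 = true := by decide +kernel

theorem scan19_b2 : allBlock (chkScan actB qs asg19 6 kids19) 3510 1024 2 = true := by decide +kernel

theorem scan19_b3 : allBlock (chkScan actB qs asg19 6 kids19) 3510 1024 3 = true := by decide +kernel

theorem scan19 : ∀ i < 3510, (chkScan actB qs asg19 6 kids19) i = true :=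
  of_blocks (size := 1024) (b := 4) (by decide) (by decide) fun j hj => by
    interval_cases j
    · exact scan19_b0
    · exact scan19_b1
    · exact scan19_b2
    · exact scan19_b3

theorem scan20_b0 : allBlock (chkScan actB qs asg20 5 kids20) 3510 1024 0 = true := by decide +kernel

theorem scan20_b1 : allBlock (chkScan actB qs asg20 5 kids20) 3510 1024 1 = true := by decide +kernel

theorem scan20_b2 : allBlock (chkScan actB qs asg20 5 kids20) 3510 1024 2 = true := by decide +kernel

theorem scan20_b3 : allBlock (chkScan actB qs asg20 5 kids20) 3510 1024 3 = true := by decide +kernel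

theorem scan20 : ∀ i < 3510, (chkScan actB qs asg20 5 kids20) i = true :=
  of_blocks (size := 1024) (b := 4) (by decide) (by decide) fun j hj => by
    interval_cases j
    · exact scan20_b0
    · exact scan20_b1
    · exact scan20_b2
    · exact scan20_b3

theorem scan21_b0 : allBlock (chkScan actB qs asg21 5 kids21) 3510 1024 0 = true := by decide +kernel

theorem scan21_b1 : allBlock (chkScan actB qs asg21 5 kids21) 3510 1024 1 = true := by decide +kernel

theorem scan21_b2 : allBlock (chkScan actB qs asg21 5 kids21) 3510 1024 2 = true := by decide +kernel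

theorem scan21_b3 : allBlock (chkScan actB qs asg21 5 kids21) 3510 1024 3 = true := by decide +kernel

theorem scan21 : ∀ i < 3510, (chkScan actB qs asg21 5 kids21) i = true :=
  of_blocks (size := 1024) (b := 4) (by decide) (by decide) fun j hj => by
    interval_cases j
    · exact scan21_b0
    · exact scan21_b1
    · exact scan21_b2
    · exact scan21_b3

theorem scan22_b0 : allBlock (chkScan actB qs asg22 7 kids22) 3510 1024 0 = true := by decide +kernel

theorem scan22_b1 : allBlock (chkScan actB qs asg22 7 kids22) 3510 1024 1 = true := by decide +kernel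

theorem scan22_b2 : allBlock (chkScan actB qs asg22 7 kids22) 3510 1024 2 = true := by decide +kernel

theorem scan22_b3 : allBlock (chkScan actB qs asg22 7 kids22) 3510 1024 3 = true := by decide +kernel

theorem scan22 : ∀ i < 3510, (chkScan actB qs asg22 7 kids22) i = true :=
  of_blocks (size := 1024) (b := 4) (by decide) (by decide) fun j hj => by
    interval_cases j
    · exact scan22_b0
    · exact scan22_b1
    · exact scan22_b2
    · exact scan22_b3


end Cfsg.Agent.Fus.Fi22Out
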