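import Cfsg.Agent.Lib.Fus.Fi22Out.TreeData
import Cfsg.Agent.Lib.Fus.Fi22Out.ClassData
import Cfsg.Agent.Lib.Spor.Cos.Fi22.ActBData

/-! Checks of tuples. -/

set_option autoImplicit false
set_option maxRecDepth 100000
set_option maxHeartbeats 4000000

open Cfsg.Agent.Spor.Cos Cfsg.Agent.Spor.Cos.Triple Cfsg.Agent.Fus.Transp

namespace Cfsg.Agent.Fus.Fi22Out

open Cfsg.Agent.Spor.Cos.Fi22 (actB)

theorem scan23_b0 : allBlock (chkScan actB qs asg23 5 kids23) 3510 1024 0 = true := by decide +kernel

theorem scan23_b1 : allBlock (chkScan actB qs asg23 5 kids23) 3510 1024 1 = true := by decide +kernel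

theorem scan23_b2 : allBlock (chkScan actB qs asg23 5 kids23) 3510 1024 2 = true := by decide +kernel

theorem scan23_b3 : allBlock (chkScan actB qs asg23 5 kids23) 3510 1024 3 = true := by decide +kernel

theorem scan23 : ∀ i < 3510, (chkScan actB qs asg23 5 kids23) i = true :=
  of_blocks (size := 1024) (b := 4) (by decide) (by decide) fun j hj => by
    interval_cases j
    · exact scan23_b0
    · exact scan23_b1
    · exact scan23_b2
    · exact scan23_b3

theorem scan24_b0 : allBlock (chkScan actB qs asg24 5 kids24) 3510 1024 0 = true := by decide +kernel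

theorem scan24_b1 : allBlock (chkScan actB qs asg24 5 kids24) 3510 1024 1 = true := by decide +kernel

theorem scan24_b2 : allBlock (chkScan actB qs asg24 5 kids24) 3510 1024 2 = true := by decide +kernel

theorem scan24_b3 : allBlock (chkScan actB qs asg24 5 kids24) 3510 1024 3 = true := by decide +kernel

theorem scan24 : ∀ i < 3510, (chkScan actB qs asg24 5 kids24) i = true :=
  of_blocks (size := 1024) (b := 4) (by decide) (by decide) fun j hj => by
    interval_cases j
    · exact scan24_b0
    · exact scan24_b1
    · exact scan24_b2
    · exact scan24_b3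

theorem scan25_b0 : allBlock (chkScan actB qs asg25 8 kids25) 3510 1024 0 = true := by decide +kernel

theorem scan25_b1 : allBlock (chkScan actB qs asg25 8 kids25) 3510 1024 1 = true := by decide +kernel

theorem scan25_b2 : allBlock (chkScan actB qs asg25 8 kids25) 3510 1024 2 = true := by decide +kernel

theorem scan25_b3 : allBlock (chkScan actB qs asg25 8 kids25) 3510 1024 3 = true := by decide +kernel

theorem scan25 : ∀ i < 3510, (chkScan actB qs asg25 8 kids25) i = true :=
  of_blocks (size := 1024) (b := 4) (by decide) (by decide) fun j hj => by
    interval_cases j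
    · exact scan25_b0
    · exact scan25_b1
    · exact scan25_b2
    · exact scan25_b3

theorem scan26_b0 : allBlock (chkScan actB qs asg26 6 kids26) 3510 1024 0 = true := by decide +kernel

theorem scan26_b1 : allBlock (chkScan actB qs asg26 6 kids26) 3510 1024 1 = true := by decide +kernel

theorem scan26_b2 : allBlock (chkScan actB qs asg26 6 kids26) 3510 1024 2 = true := by decide +kernel

theorem scan26_b3 : allBlock (chkScan actB qs asg26 6 kids26) 3510 1024 3 = true := by decide +kernel

theorem scan26 : ∀ i < 3510, (chkScan actB qs asg26 6 kids26) i = true :=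
  of_blocks (size := 1024) (b := 4) (by decide) (by decide) fun j hj => by
    interval_cases j
    · exact scan26_b0
    · exact scan26_b1
    · exact scan26_b2
    · exact scan26_b3

theorem scan27_b0 : allBlock (chkScan actB qs asg27 5 kids27) 3510 1024 0 = true := by decide +kernel

theorem scan27_b1 : allBlock (chkScan actB qs asg27 5 kids27) 3510 1024 1 = true := by decide +kernel

theorem scan27_b2 : allBlock (chkScan actB qs asg27 5 kids27) 3510 1024 2 = true := by decide +kernel

theorem scan27_b3 : allBlock (chkScan actB qs asg27 5 kids27) 3510 1024 3 = true := by decide +kernel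

theorem scan27 : ∀ i < 3510, (chkScan actB qs asg27 5 kids27) i = true :=
  of_blocks (size := 1024) (b := 4) (by decide) (by decide) fun j hj => by
    interval_cases j
    · exact scan27_b0
    · exact scan27_b1
    · exact scan27_b2
    · exact scan27_b3

theorem scan28_b0 : allBlock (chkScan actB qs asg28 3 kids28) 3510 1024 0 = true := by decide +kernel

theorem scan28_b1 : allBlock (chkScan actB qs asg28 3 kids28) 3510 1024 1 = true := by decide +kernel

theorem scan28_b2 : allBlock (chkScan actB qs asg28 3 kids28) 3510 1024 2 = true := by decide +kernel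

theorem scan28_b3 : allBlock (chkScan actB qs asg28 3 kids28) 3510 1024 3 = true := by decide +kernel

theorem scan28 : ∀ i < 3510, (chkScan actB qs asg28 3 kids28) i = true :=
  of_blocks (size := 1024) (b := 4) (by decide) (by decide) fun j hj => by
    interval_cases j
    · exact scan28_b0
    · exact scan28_b1
    · exact scan28_b2
    · exact scan28_b3


end Cfsg.Agent.Fus.Fi22Out
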