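import Cfsg.Agent.Lib.Spor.Cos.Fi22.Trans
import Cfsg.Agent.Lib.Fus.TranspOut
import Cfsg.Agent.Lib.Fus.Fi22Out.Outer
import Cfsg.Agent.Lib.Fus.Fi22Out.Chain0
import Cfsg.Agent.Lib.Fus.Fi22Out.Chain1
import Cfsg.Agent.Lib.Fus.Fi22Out.Chain2
import Cfsg.Agent.Lib.Fus.Fi22Out.Cand0
import Cfsg.Agent.Lib.Fus.Fi22Out.Cand1
import Cfsg.Agent.Lib.Fus.Fi22Out.Cand2
import Cfsg.Agent.Lib.Fus.Fi22Out.Enum
import Cfsg.Agent.Lib.Fus.Fi22Out.Dfs
import Cfsg.Agent.Lib.Fus.Fi22Out.Orbs0
import Cfsg.Agent.Lib.Fus.Fi22Out.Scan0
import Cfsg.Agent.Lib.Fus.Fi22Out.Scan1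
import Cfsg.Agent.Lib.Fus.Fi22Out.Scan2
import Cfsg.Agent.Lib.Fus.Fi22Out.Scan3

/-!
The outer automorphism group of Fi22: transpositions go to transpositions, and their tuples with the pattern of the
generators form few classes.
-/

set_option autoImplicit false
set_option maxRecDepth 100000
set_option maxHeartbeats 4000000

open Cfsg.Agent.Spor.Cos Cfsg.Agent.Spor.Cos.Triple Cfsg.Agent.Fus.Transp

namespace Cfsg.Agent.Fus.Fi22Out

open Cfsg.Agent.Spor.Cos.Fi22 (g actA homA actB piB homB baseB)

theorem qgen_ok : ((List.range 9).all fun s => ((qu.getD s []).all fun t => Nat.blt t 9) &&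
    Nat.beq (actB.go (qu.getD s []) 0) (qs.getD s 0) &&
    sameW actA [0, 1, 2, 3, 67, 4, 5, 23] [s] (conjW tw (qu.getD s []))) = true := by decide +kernel

theorem center_trivial (y : Cfsg.Spor.Fi22) (h : ∀ z, y * z = z * y) : y = 1 := by
  have := Cfsg.Agent.Spor.Cos.Fi22.isSimple
  rw [← Subgroup.mem_bot]
  have hy : y ∈ Subgroup.center Cfsg.Spor.Fi22 := Subgroup.mem_center_iff.2 fun z => (h z).symm
  rcases IsSimpleGroup.eq_bot_or_eq_top_of_normal (Subgroup.center Cfsg.Spor.Fi22) inferInstance with e | e
  · rwa [e] at hy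
  · exfalso
    have e' : ev g [0, 1] = ev g [1, 0] := by
      have := Subgroup.mem_center_iff.1 (e ▸ Subgroup.mem_top (g 0) : g 0 ∈ Subgroup.center _) (g 1)
      simpa [ev] using this.symm
    have h1 := agree_of_eq homA (pts := [0, 1, 2, 3, 67, 4, 5, 23]) (by decide +kernel)
      (fun s hs => (by decide +kernel : ∀ s ∈ [0, 1], s < actA.n) s hs)
      (fun s hs => (by decide +kernel : ∀ s ∈ [1, 0], s < actA.n) s hs) e'
    have h2 : agree actA [0, 1, 2, 3, 67, 4, 5, 23] [0, 1] [1, 0] = false := by decide +kernel
    rw [h2] at h1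
    exact Bool.noConfusion h1

theorem setup : Setup g actB piB qs baseB tw where
  hom := homB
  sq := Cfsg.Agent.Spor.Cos.Fi22.g_sq
  gen := Cfsg.Agent.Spor.Cos.Fi22.g_gen
  center := center_trivial
  tr := Cfsg.Agent.Spor.Cos.Fi22.trB
  cent := fun y => by
    show y * Cfsg.Agent.Spor.Cos.Fi22.tz = Cfsg.Agent.Spor.Cos.Fi22.tz * y ↔ _
    rw [← Subgroup.mem_centralizer_singleton_iff, Cfsg.Agent.Spor.Cos.Fi22.centralizer_tz, Cfsg.Agent.Spor.Cos.Fi22.stabB, mem_stab]
  qlen := by decide +kernel
  qgen := fun s hs => by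
    have h := List.all_eq_true.1 qgen_ok s (List.mem_range.2 hs)
    simp only [Bool.and_eq_true, List.all_eq_true] at h
    obtain ⟨⟨hl, hgo⟩, hw⟩ := h
    have hl' : ∀ t ∈ qu.getD s [], t < actB.n := fun t ht => Nat.le_of_ble_eq_true (hl t ht)
    refine ⟨ev g (qu.getD s []), (homB.apply_ev _ hl' baseB).trans (Nat.eq_of_beq_eq_true hgo), ?_⟩
    have e := eq_of_sameW (g := g) homA Cfsg.Agent.Spor.Cos.Fi22.det hw
    rw [conjW, ev_append, ev_append, ev_reverse (fun t _ => Cfsg.Agent.Spor.Cos.Fi22.g_sq t) _ hl', ← mul_assoc] at e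
    simpa [ev] using e

theorem chain_ok : ((List.range chainH.length).all fun i => chkChain actB qs chainH chainE i) = true := by
  refine List.all_eq_true.2 fun i hi => ?_
  have hi' : i < 17 := List.mem_range.1 hi
  interval_cases i
  · exact chain0_ok
  · exact chain1_ok
  · exact chain2_ok
  · exact chain3_ok
  · exact chain4_ok
  · exact chain5_ok
  · exact chain6_ok
  · exact chain7_ok
  · exact chain8_ok
  · exact chain9_ok
  · exact chain10_ok
  · exact chain11_ok
  · exact chain12_ok
  · exact chain13_ok
  · exact chain14_ok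
  · exact chain15_ok
  · exact chain16_ok

theorem cand_ok : ∀ R ∈ rts, ∀ p < actB.N, chkCand actB R p = true := by
  intro R hR
  simp only [rts, List.mem_cons, List.not_mem_nil, or_false] at hR
  rcases hR with rfl | rfl | rfl | rfl | rfl | rfl | rfl | rfl
  · exact cand0_ok
  · exact cand1_ok
  · exact cand2_ok
  · exact cand3_ok
  · exact cand4_ok
  · exact cand5_ok
  · exact cand6_ok
  · exact cand7_ok

theorem tz_class (φ : MulAut Cfsg.Spor.Fi22) : IsConj (ev g tw) (φ (ev g tw)) := by
  have := Cfsg.Agent.Spor.Cos.Fi22.finite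
  refine setup.cls_fixed Cfsg.Agent.Spor.Cos.Fi22.tz_sq ?_ Cfsg.Agent.Spor.Cos.Fi22.prod_pow ?_ chain_ok (by decide +kernel) sq_ok
    (zs := zs) (fun x hx => setup.centralizer_listed (by decide +kernel) (List.all_eq_true.1 rts_ok) cand_ok
      dvs_ok dfs_ok x hx) zs_ok φ
  · show Cfsg.Agent.Spor.Cos.Fi22.tz ≠ 1
    intro h
    have := Cfsg.Agent.Spor.Cos.Fi22.orderOf_tz
    rw [h, orderOf_one] at this
    omega
  · show Nat.card (conjugatesOf Cfsg.Agent.Spor.Cos.Fi22.tz) % 4 ≠ 0
    rw [Cfsg.Agent.Spor.Cos.Fi22.card_class]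
    decide

/-- The permutations of the generators allowed. -/
def sigs : List (List ℕ) := [List.range 9, [6, 5, 4, 3, 2, 1, 0, 7, 8]]

theorem node28 : ∀ φ, setup.Match asg28 φ → Setup.Good g actB.n sigs φ :=
  setup.step tz_class (ws := ws28) (j := 3) (kids := kids28) (by decide +kernel) (fun k hk => by simp [kids28] at hk) scan28
    (fun k hk => by simp [kids28] at hk)

theorem node27 : ∀ φ, setup.Match asg27 φ → Setup.Good g actB.n sigs φ :=
  setup.step tz_class (ws := ws27) (j := 5) (kids := kids27) (by decide +kernel) (fun k hk => by simp [kids27] at hk) scan27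
    (fun k hk => by simp [kids27] at hk)

theorem node26 : ∀ φ, setup.Match asg26 φ → Setup.Good g actB.n sigs φ :=
  setup.step tz_class (ws := ws26) (j := 6) (kids := kids26) (by decide +kernel) (fun k hk => by simp [kids26] at hk) scan26
    (fun k hk => by simp [kids26] at hk)

theorem node25 : ∀ φ, setup.Match asg25 φ → Setup.Good g actB.n sigs φ :=
  setup.step tz_class (ws := ws25) (j := 8) (kids := kids25) (by decide +kernel) (fun k hk => by
    simp only [kids25, List.mem_cons, List.not_mem_nil, or_false] at hk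
    rcases hk with rfl
    · exact o26_ok
  ) scan25 (fun k hk => by
    simp only [kids25, List.mem_cons, List.not_mem_nil, or_false] at hk
    rcases hk with rfl
    · exact node26
  )

theorem node24 : ∀ φ, setup.Match asg24 φ → Setup.Good g actB.n sigs φ :=
  setup.step tz_class (ws := ws24) (j := 5) (kids := kids24) (by decide +kernel) (fun k hk => by
    simp only [kids24, List.mem_cons, List.not_mem_nil, or_false] at hk
    rcases hk with rfl
    · exact o25_ok
  ) scan24 (fun k hk => by
    simp only [kids24, List.mem_cons, List.not_mem_nil, or_false] at hk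
    rcases hk with rfl
    · exact node25
  )

theorem node23 : ∀ φ, setup.Match asg23 φ → Setup.Good g actB.n sigs φ :=
  setup.step tz_class (ws := ws23) (j := 5) (kids := kids23) (by decide +kernel) (fun k hk => by simp [kids23] at hk) scan23
    (fun k hk => by simp [kids23] at hk)

theorem node22 : ∀ φ, setup.Match asg22 φ → Setup.Good g actB.n sigs φ :=
  setup.step tz_class (ws := ws22) (j := 7) (kids := kids22) (by decide +kernel) (fun k hk => by
    simp only [kids22, List.mem_cons, List.not_mem_nil, or_false] at hk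
    rcases hk with rfl | rfl | rfl
    · exact o23_ok
    · exact o24_ok
    · exact o27_ok
  ) scan22 (fun k hk => by
    simp only [kids22, List.mem_cons, List.not_mem_nil, or_false] at hk
    rcases hk with rfl | rfl | rfl
    · exact node23
    · exact node24
    · exact node27
  )

theorem node21 : ∀ φ, setup.Match asg21 φ → Setup.Good g actB.n sigs φ :=
  setup.step tz_class (ws := ws21) (j := 5) (kids := kids21) (by decide +kernel) (fun k hk => by simp [kids21] at hk) scan21
    (fun k hk => by simp [kids21] at hk)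

theorem node20 : ∀ φ, setup.Match asg20 φ → Setup.Good g actB.n sigs φ :=
  setup.step tz_class (ws := ws20) (j := 5) (kids := kids20) (by decide +kernel) (fun k hk => by simp [kids20] at hk) scan20
    (fun k hk => by simp [kids20] at hk)

theorem node19 : ∀ φ, setup.Match asg19 φ → Setup.Good g actB.n sigs φ :=
  setup.step tz_class (ws := ws19) (j := 6) (kids := kids19) (by decide +kernel) (fun k hk => by simp [kids19] at hk) scan19
    (fun k hk => by simp [kids19] at hk)

theorem node18 : ∀ φ, setup.Match asg18 φ → Setup.Good g actB.n sigs φ :=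
  setup.step tz_class (ws := ws18) (j := 8) (kids := kids18) (by decide +kernel) (fun k hk => by
    simp only [kids18, List.mem_cons, List.not_mem_nil, or_false] at hk
    rcases hk with rfl
    · exact o19_ok
  ) scan18 (fun k hk => by
    simp only [kids18, List.mem_cons, List.not_mem_nil, or_false] at hk
    rcases hk with rfl
    · exact node19
  )

theorem node17 : ∀ φ, setup.Match asg17 φ → Setup.Good g actB.n sigs φ :=
  setup.step tz_class (ws := ws17) (j := 5) (kids := kids17) (by decide +kernel) (fun k hk => by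
    simp only [kids17, List.mem_cons, List.not_mem_nil, or_false] at hk
    rcases hk with rfl
    · exact o18_ok
  ) scan17 (fun k hk => by
    simp only [kids17, List.mem_cons, List.not_mem_nil, or_false] at hk
    rcases hk with rfl
    · exact node18
  )

theorem node16 : ∀ φ, setup.Match asg16 φ → Setup.Good g actB.n sigs φ :=
  setup.step tz_class (ws := ws16) (j := 7) (kids := kids16) (by decide +kernel) (fun k hk => by
    simp only [kids16, List.mem_cons, List.not_mem_nil, or_false] at hk
    rcases hk with rfl | rfl | rfl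
    · exact o17_ok
    · exact o20_ok
    · exact o21_ok
  ) scan16 (fun k hk => by
    simp only [kids16, List.mem_cons, List.not_mem_nil, or_false] at hk
    rcases hk with rfl | rfl | rfl
    · exact node17
    · exact node20
    · exact node21
  )

theorem node15 : ∀ φ, setup.Match asg15 φ → Setup.Good g actB.n sigs φ :=
  setup.leaf (σ := sig15) (z := zw15) (by decide +kernel) (by decide +kernel)

theorem node14 : ∀ φ, setup.Match asg14 φ → Setup.Good g actB.n sigs φ :=
  setup.step tz_class (ws := ws14) (j := 6) (kids := kids14) (by decide +kernel) (fun k hk => by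
    simp only [kids14, List.mem_cons, List.not_mem_nil, or_false] at hk
    rcases hk with rfl
    · exact o15_ok
  ) scan14 (fun k hk => by
    simp only [kids14, List.mem_cons, List.not_mem_nil, or_false] at hk
    rcases hk with rfl
    · exact node15
  )

theorem node13 : ∀ φ, setup.Match asg13 φ → Setup.Good g actB.n sigs φ :=
  setup.step tz_class (ws := ws13) (j := 8) (kids := kids13) (by decide +kernel) (fun k hk => by
    simp only [kids13, List.mem_cons, List.not_mem_nil, or_false] at hk
    rcases hk with rfl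
    · exact o14_ok
  ) scan13 (fun k hk => by
    simp only [kids13, List.mem_cons, List.not_mem_nil, or_false] at hk
    rcases hk with rfl
    · exact node14
  )

theorem node12 : ∀ φ, setup.Match asg12 φ → Setup.Good g actB.n sigs φ :=
  setup.step tz_class (ws := ws12) (j := 5) (kids := kids12) (by decide +kernel) (fun k hk => by
    simp only [kids12, List.mem_cons, List.not_mem_nil, or_false] at hk
    rcases hk with rfl
    · exact o13_ok
  ) scan12 (fun k hk => by
    simp only [kids12, List.mem_cons, List.not_mem_nil, or_false] at hk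
    rcases hk with rfl
    · exact node13
  )

theorem node11 : ∀ φ, setup.Match asg11 φ → Setup.Good g actB.n sigs φ :=
  setup.step tz_class (ws := ws11) (j := 8) (kids := kids11) (by decide +kernel) (fun k hk => by simp [kids11] at hk) scan11
    (fun k hk => by simp [kids11] at hk)

theorem node10 : ∀ φ, setup.Match asg10 φ → Setup.Good g actB.n sigs φ :=
  setup.step tz_class (ws := ws10) (j := 5) (kids := kids10) (by decide +kernel) (fun k hk => by
    simp only [kids10, List.mem_cons, List.not_mem_nil, or_false] at hk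
    rcases hk with rfl
    · exact o11_ok
  ) scan10 (fun k hk => by
    simp only [kids10, List.mem_cons, List.not_mem_nil, or_false] at hk
    rcases hk with rfl
    · exact node11
  )

theorem node9 : ∀ φ, setup.Match asg9 φ → Setup.Good g actB.n sigs φ :=
  setup.step tz_class (ws := ws9) (j := 5) (kids := kids9) (by decide +kernel) (fun k hk => by simp [kids9] at hk) scan9
    (fun k hk => by simp [kids9] at hk)

theorem node8 : ∀ φ, setup.Match asg8 φ → Setup.Good g actB.n sigs φ :=
  setup.leaf (σ := sig8) (z := zw8) (by decide +kernel) (by decide +kernel)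

theorem node7 : ∀ φ, setup.Match asg7 φ → Setup.Good g actB.n sigs φ :=
  setup.step tz_class (ws := ws7) (j := 6) (kids := kids7) (by decide +kernel) (fun k hk => by
    simp only [kids7, List.mem_cons, List.not_mem_nil, or_false] at hk
    rcases hk with rfl
    · exact o8_ok
  ) scan7 (fun k hk => by
    simp only [kids7, List.mem_cons, List.not_mem_nil, or_false] at hk
    rcases hk with rfl
    · exact node8
  )

theorem node6 : ∀ φ, setup.Match asg6 φ → Setup.Good g actB.n sigs φ :=
  setup.step tz_class (ws := ws6) (j := 8) (kids := kids6) (by decide +kernel) (fun k hk => by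
    simp only [kids6, List.mem_cons, List.not_mem_nil, or_false] at hk
    rcases hk with rfl
    · exact o7_ok
  ) scan6 (fun k hk => by
    simp only [kids6, List.mem_cons, List.not_mem_nil, or_false] at hk
    rcases hk with rfl
    · exact node7
  )

theorem node5 : ∀ φ, setup.Match asg5 φ → Setup.Good g actB.n sigs φ :=
  setup.step tz_class (ws := ws5) (j := 5) (kids := kids5) (by decide +kernel) (fun k hk => by
    simp only [kids5, List.mem_cons, List.not_mem_nil, or_false] at hk
    rcases hk with rfl
    · exact o6_ok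
  ) scan5 (fun k hk => by
    simp only [kids5, List.mem_cons, List.not_mem_nil, or_false] at hk
    rcases hk with rfl
    · exact node6
  )

theorem node4 : ∀ φ, setup.Match asg4 φ → Setup.Good g actB.n sigs φ :=
  setup.step tz_class (ws := ws4) (j := 7) (kids := kids4) (by decide +kernel) (fun k hk => by
    simp only [kids4, List.mem_cons, List.not_mem_nil, or_false] at hk
    rcases hk with rfl | rfl | rfl | rfl
    · exact o5_ok
    · exact o9_ok
    · exact o10_ok
    · exact o12_ok
  ) scan4 (fun k hk => by
    simp only [kids4, List.mem_cons, List.not_mem_nil, or_false] at hk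
    rcases hk with rfl | rfl | rfl | rfl
    · exact node5
    · exact node9
    · exact node10
    · exact node12
  )

theorem node3 : ∀ φ, setup.Match asg3 φ → Setup.Good g actB.n sigs φ :=
  setup.step tz_class (ws := ws3) (j := 4) (kids := kids3) (by decide +kernel) (fun k hk => by
    simp only [kids3, List.mem_cons, List.not_mem_nil, or_false] at hk
    rcases hk with rfl | rfl | rfl
    · exact o4_ok
    · exact o16_ok
    · exact o22_ok
  ) scan3 (fun k hk => by
    simp only [kids3, List.mem_cons, List.not_mem_nil, or_false] at hk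
    rcases hk with rfl | rfl | rfl
    · exact node4
    · exact node16
    · exact node22
  )

theorem node2 : ∀ φ, setup.Match asg2 φ → Setup.Good g actB.n sigs φ :=
  setup.step tz_class (ws := ws2) (j := 3) (kids := kids2) (by decide +kernel) (fun k hk => by
    simp only [kids2, List.mem_cons, List.not_mem_nil, or_false] at hk
    rcases hk with rfl
    · exact o3_ok
  ) scan2 (fun k hk => by
    simp only [kids2, List.mem_cons, List.not_mem_nil, or_false] at hk
    rcases hk with rfl
    · exact node3
  )

theorem node1 : ∀ φ, setup.Match asg1 φ → Setup.Good g actB.n sigs φ :=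
  setup.step tz_class (ws := ws1) (j := 2) (kids := kids1) (by decide +kernel) (fun k hk => by
    simp only [kids1, List.mem_cons, List.not_mem_nil, or_false] at hk
    rcases hk with rfl | rfl
    · exact o2_ok
    · exact o28_ok
  ) scan1 (fun k hk => by
    simp only [kids1, List.mem_cons, List.not_mem_nil, or_false] at hk
    rcases hk with rfl | rfl
    · exact node2
    · exact node28
  )

theorem node0 : ∀ φ, setup.Match asg0 φ → Setup.Good g actB.n sigs φ :=
  setup.step tz_class (ws := ws0) (j := 1) (kids := kids0) (by decide +kernel) (fun k hk => by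
    simp only [kids0, List.mem_cons, List.not_mem_nil, or_false] at hk
    rcases hk with rfl
    · exact o1_ok
  ) scan0 (fun k hk => by
    simp only [kids0, List.mem_cons, List.not_mem_nil, or_false] at hk
    rcases hk with rfl
    · exact node1
  )

theorem good (φ : MulAut Cfsg.Spor.Fi22) : Setup.Good g 9 sigs φ :=
  setup.root tz_class (j := 0) (by decide +kernel) (e := (asg0.getD 0 (0, ⟨0, [], []⟩)).2)
    (by decide +kernel) node0 φ

theorem ev_map_idx (σ : ℕ → ℕ) : ∀ w : List ℕ, ev (fun s => g (σ s)) w = ev g (w.map σ)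
  | [] => rfl
  | s :: w => by simp [ev, ev_map_idx σ w]

theorem sig_words_ok : (Cfsg.Agent.Spor.Cos.Fi22.words.all fun w =>
    sameW actA [0, 1, 2, 3, 67, 4, 5, 23] (w.map fun s => ([6, 5, 4, 3, 2, 1, 0, 7, 8] : List ℕ).getD s 9) []) = true := by decide +kernel

theorem exists_graph : ∃ f : Cfsg.Spor.Fi22 →* Cfsg.Spor.Fi22, ∀ s < 9, f (g s) = g (([6, 5, 4, 3, 2, 1, 0, 7, 8] : List ℕ).getD s 0) := by
  obtain ⟨f, hf⟩ := Cfsg.Agent.Spor.Cos.Fi22.pres.exists_hom (fun s => g (([6, 5, 4, 3, 2, 1, 0, 7, 8] : List ℕ).getD s 9))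
    (fun s => Cfsg.Agent.Spor.Cos.Fi22.g_sq _) (fun w hw => by
      rw [ev_map_idx]
      exact (eq_of_sameW homA Cfsg.Agent.Spor.Cos.Fi22.det (List.all_eq_true.1 sig_words_ok w hw)).trans rfl) (fun s hs => by
      rw [List.getD_eq_default _ _ (by simpa [Cfsg.Agent.Spor.Cos.Fi22.alph] using hs)]
      rfl)
  refine ⟨f, fun s hs => (hf s).trans ?_⟩
  interval_cases s <;> rfl

theorem no_inner (c : Cfsg.Spor.Fi22) : ¬ ∀ s < 9, c * g s * c⁻¹ = g (([6, 5, 4, 3, 2, 1, 0, 7, 8] : List ℕ).getD s 0) := by
  intro h
  set p := Cfsg.Agent.Spor.Cos.Fi22.piA c Cfsg.Agent.Spor.Cos.Fi22.baseA with hp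
  have hfix : actA.chkFix [[5], [4], [3], [2], [1], [0], [7], [8]] p = true := by
    refine List.all_eq_true.2 fun w hw => ?_
    obtain ⟨s, hs, rfl⟩ : ∃ s, (1 ≤ s ∧ s < 9) ∧ w = [([6, 5, 4, 3, 2, 1, 0, 7, 8] : List ℕ).getD s 0] := by
      simp only [List.mem_cons, List.not_mem_nil, or_false] at hw
      rcases hw with rfl | rfl | rfl | rfl | rfl | rfl | rfl | rfl
      · exact ⟨1, by decide, rfl⟩
      · exact ⟨2, by decide, rfl⟩
      · exact ⟨3, by decide, rfl⟩
      · exact ⟨4, by decide, rfl⟩
      · exact ⟨5, by decide, rfl⟩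
      · exact ⟨6, by decide, rfl⟩
      · exact ⟨7, by decide, rfl⟩
      · exact ⟨8, by decide, rfl⟩
    have h0 : Cfsg.Agent.Spor.Cos.Fi22.piA (g s) Cfsg.Agent.Spor.Cos.Fi22.baseA = Cfsg.Agent.Spor.Cos.Fi22.baseA := by
      rw [← mem_stab, ← Cfsg.Agent.Spor.Cos.Fi22.stabA]
      have : [s] ∈ Cfsg.Agent.Spor.Cos.Fi22.lv1W := by
        obtain ⟨h1, h2⟩ := hs
        interval_cases s <;> decide
      simpa [ev] using mem_val (g := g) this
    have e : Cfsg.Agent.Spor.Cos.Fi22.piA (ev g [([6, 5, 4, 3, 2, 1, 0, 7, 8] : List ℕ).getD s 0]) p = p := by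
      simp only [ev, mul_one]
      rw [← h s hs.2, hp, ← Equiv.Perm.mul_apply, ← map_mul, inv_mul_cancel_right, map_mul, Equiv.Perm.mul_apply, h0]
    rw [← homA.apply_ev _ (by
      obtain ⟨h1, h2⟩ := hs
      interval_cases s <;> decide +kernel) p, e]
    exact Nat.beq_refl _
  rw [outer_scan p p.2] at hfix
  exact Bool.noConfusion hfix

/-- The outer automorphism group of Fi22 has order two. -/
theorem card_out : Nat.card (Cfsg.Out Cfsg.Spor.Fi22) = 2 := by
  obtain ⟨f, hf⟩ := exists_graph
  exact card_out_two (n := 9) Cfsg.Agent.Spor.Cos.Fi22.g_gen (σ := [6, 5, 4, 3, 2, 1, 0, 7, 8]) (by decide) (by decide) f hf no_inner good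

end Cfsg.Agent.Fus.Fi22Out
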