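import Cfsg.Agent.Lib.Fus.Fi22Out.TreeData
import Cfsg.Agent.Lib.Fus.Fi22Out.ClassData
import Cfsg.Agent.Lib.Spor.Cos.Fi22.ActBData

/-! Checks of tuples. -/

set_option autoImplicit false
set_option maxRecDepth 100000
set_option maxHeartbeats 4000000

open Cfsg.Agent.Spor.Cos Cfsg.Agent.Spor.Cos.Triple Cfsg.Agent.Fus.Transp

namespace Cfsg.Agent.Fus.Fi22Out

open Cfsg.Agent.Spor.Cos.Fi22 (actB)

theorem scan7_b0 : allBlock (chkScan actB qs asg7 6 kids7) 3510 1024 0 = true := by decide +kernel

theorem scan7_b1 : allBlock (chkScan actB qs asg7 6 kids7) 3510 1024 1 = true := by decide +kernel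

theorem scan7_b2 : allBlock (chkScan actB qs asg7 6 kids7) 3510 1024 2 = true := by decide +kernel

theorem scan7_b3 : allBlock (chkScan actB qs asg7 6 kids7) 3510 1024 3 = true := by decide +kernel

theorem scan7 : ∀ i < 3510, (chkScan actB qs asg7 6 kids7) i = true :=
  of_blocks (size := 1024) (b := 4) (by decide) (by decide) fun j hj => by
    interval_cases j
    · exact scan7_b0
    · exact scan7_b1
    · exact scan7_b2
    · exact scan7_b3

theorem scan9_b0 : allBlock (chkScan actB qs asg9 5 kids9) 3510 1024 0 = true := by decide +kernel

theorem scan9_b1 : allBlock (chkScan actB qs asg9 5 kids9) 3510 1024 1 = true := by decide +kernel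

theorem scan9_b2 : allBlock (chkScan actB qs asg9 5 kids9) 3510 1024 2 = true := by decide +kernel

theorem scan9_b3 : allBlock (chkScan actB qs asg9 5 kids9) 3510 1024 3 = true := by decide +kernel

theorem scan9 : ∀ i < 3510, (chkScan actB qs asg9 5 kids9) i = true :=
  of_blocks (size := 1024) (b := 4) (by decide) (by decide) fun j hj => by
    interval_cases j
    · exact scan9_b0
    · exact scan9_b1
    · exact scan9_b2
    · exact scan9_b3

theorem scan10_b0 : allBlock (chkScan actB qs asg10 5 kids10) 3510 1024 0 = true := by decide +kernel

theorem scan10_b1 : allBlock (chkScan actB qs asg10 5 kids10) 3510 1024 1 = true := by decide +kernel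

theorem scan10_b2 : allBlock (chkScan actB qs asg10 5 kids10) 3510 1024 2 = true := by decide +kernel

theorem scan10_b3 : allBlock (chkScan actB qs asg10 5 kids10) 3510 1024 3 = true := by decide +kernel

theorem scan10 : ∀ i < 3510, (chkScan actB qs asg10 5 kids10) i = true :=
  of_blocks (size := 1024) (b := 4) (by decide) (by decide) fun j hj => by
    interval_cases j
    · exact scan10_b0
    · exact scan10_b1
    · exact scan10_b2
    · exact scan10_b3

theorem scan11_b0 : allBlock (chkScan actB qs asg11 8 kids11) 3510 1024 0 = true := by decide +kernel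

theorem scan11_b1 : allBlock (chkScan actB qs asg11 8 kids11) 3510 1024 1 = true := by decide +kernel

theorem scan11_b2 : allBlock (chkScan actB qs asg11 8 kids11) 3510 1024 2 = true := by decide +kernel

theorem scan11_b3 : allBlock (chkScan actB qs asg11 8 kids11) 3510 1024 3 = true := by decide +kernel

theorem scan11 : ∀ i < 3510, (chkScan actB qs asg11 8 kids11) i = true :=
  of_blocks (size := 1024) (b := 4) (by decide) (by decide) fun j hj => by
    interval_cases j
    · exact scan11_b0
    · exact scan11_b1
    · exact scan11_b2
    · exact scan11_b3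

theorem scan12_b0 : allBlock (chkScan actB qs asg12 5 kids12) 3510 1024 0 = true := by decide +kernel

theorem scan12_b1 : allBlock (chkScan actB qs asg12 5 kids12) 3510 1024 1 = true := by decide +kernel

theorem scan12_b2 : allBlock (chkScan actB qs asg12 5 kids12) 3510 1024 2 = true := by decide +kernel

theorem scan12_b3 : allBlock (chkScan actB qs asg12 5 kids12) 3510 1024 3 = true := by decide +kernel

theorem scan12 : ∀ i < 3510, (chkScan actB qs asg12 5 kids12) i = true :=
  of_blocks (size := 1024) (b := 4) (by decide) (by decide) fun j hj => by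
    interval_cases j
    · exact scan12_b0
    · exact scan12_b1
    · exact scan12_b2
    · exact scan12_b3

theorem scan13_b0 : allBlock (chkScan actB qs asg13 8 kids13) 3510 1024 0 = true := by decide +kernel

theorem scan13_b1 : allBlock (chkScan actB qs asg13 8 kids13) 3510 1024 1 = true := by decide +kernel

theorem scan13_b2 : allBlock (chkScan actB qs asg13 8 kids13) 3510 1024 2 = true := by decide +kernel

theorem scan13_b3 : allBlock (chkScan actB qs asg13 8 kids13) 3510 1024 3 = true := by decide +kernel

theorem scan13 : ∀ i < 3510, (chkScan actB qs asg13 8 kids13) i = true :=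
  of_blocks (size := 1024) (b := 4) (by decide) (by decide) fun j hj => by
    interval_cases j
    · exact scan13_b0
    · exact scan13_b1
    · exact scan13_b2
    · exact scan13_b3

theorem scan14_b0 : allBlock (chkScan actB qs asg14 6 kids14) 3510 1024 0 = true := by decide +kernel

theorem scan14_b1 : allBlock (chkScan actB qs asg14 6 kids14) 3510 1024 1 = true := by decide +kernel

theorem scan14_b2 : allBlock (chkScan actB qs asg14 6 kids14) 3510 1024 2 = true := by decide +kernel

theorem scan14_b3 : allBlock (chkScan actB qs asg14 6 kids14) 3510 1024 3 = true := by decide +kernel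

theorem scan14 : ∀ i < 3510, (chkScan actB qs asg14 6 kids14) i = true :=
  of_blocks (size := 1024) (b := 4) (by decide) (by decide) fun j hj => by
    interval_cases j
    · exact scan14_b0
    · exact scan14_b1
    · exact scan14_b2
    · exact scan14_b3


end Cfsg.Agent.Fus.Fi22Out
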